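import Cfsg.Agent.Lib.Spor.MathieuDegreeBound

/-!
Centralisers of the elements of order 23 and 11 of `M₂₄` are the cyclic groups they generate.
-/

set_option autoImplicit false

namespace CfsgLib.Spor.J4Out

open Cfsg

/-- when `q` exactly divides the group order all elements of order `q` have centralisers of one size -/
theorem card_centralizer_eq {G : Type*} [Group G] [Finite G] {q : ℕ} [Fact q.Prime]
    (h2 : ¬ q ^ 2 ∣ Nat.card G) {A a : G} (hA : orderOf A = q) (ha : orderOf a = q) :
    Nat.card (Subgroup.centralizer ({a} : Set G)) =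
      Nat.card (Subgroup.centralizer ({A} : Set G)) := by
  have hfac : ∀ {x : G}, orderOf x = q →
      Nat.card (Subgroup.zpowers x) = q ^ (Nat.card G).factorization q := by
    intro x hx
    have h1 : q ∣ Nat.card G := hx ▸ orderOf_dvd_natCard x
    have hle : 1 ≤ (Nat.card G).factorization q :=
      (Fact.out : q.Prime).factorization_pos_of_dvd Nat.card_pos.ne' h1
    have hlt : (Nat.card G).factorization q < 2 := by
      by_contra hc
      exact h2 (((Fact.out : q.Prime).pow_dvd_iff_le_factorization Nat.card_pos.ne').2 (by omega))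
    rw [Nat.card_zpowers, hx, show (Nat.card G).factorization q = 1 by omega, pow_one]
  obtain ⟨c, hc⟩ := MulAction.exists_smul_eq G (Sylow.ofCard _ (hfac hA)) (Sylow.ofCard _ (hfac ha))
  have hc' : (Subgroup.zpowers A).map (MulAut.conj c).toMonoidHom = Subgroup.zpowers a := by
    have := congrArg (fun P : Sylow q G => (P : Subgroup G)) hc
    simpa [Sylow.coe_subgroup_smul, Subgroup.pointwise_smul_def] using this
  have key : Subgroup.centralizer ({a} : Set G) =
      (Subgroup.centralizer ({A} : Set G)).map (MulAut.conj c).toMonoidHom := by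
    have hz : ∀ x : G, Subgroup.centralizer ((Subgroup.zpowers x : Subgroup G) : Set G) =
        Subgroup.centralizer {x} := fun x => by
      rw [Subgroup.zpowers_eq_closure, Subgroup.centralizer_closure]
    rw [← hz a, ← hz A, ← hc']
    ext g
    simp only [Subgroup.mem_map, Subgroup.mem_centralizer_iff, SetLike.mem_coe]
    constructor
    · intro h
      refine ⟨c⁻¹ * g * c, fun k hk => ?_, by simp [MulAut.conj_apply, mul_assoc]⟩
      have := h (c * k * c⁻¹) ⟨k, hk, by simp [MulAut.conj_apply]⟩
      calc k * (c⁻¹ * g * c) = c⁻¹ * ((c * k * c⁻¹) * g) * c := by group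
        _ = c⁻¹ * (g * (c * k * c⁻¹)) * c := by rw [this]
        _ = c⁻¹ * g * c * k := by group
    · rintro ⟨x, hx, rfl⟩ _ ⟨k, hk, rfl⟩
      rw [← map_mul, ← map_mul, hx k hk]
  rw [key, Subgroup.card_map_of_injective (MulEquiv.injective _)]

/-- centralisers of elements of order 23 in `M₂₄` -/
theorem m24_cent_23 {a : M24} (ha : orderOf a = 23) :
    Nat.card (Subgroup.centralizer ({a} : Set M24)) = 23 := by
  have : Fact (Nat.Prime 23) := ⟨by norm_num⟩
  obtain ⟨A, B, C, D, hA, hB, hC, hD, cA, cB, -⟩ := CfsgLib.Spor.m24_data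
  rw [card_centralizer_eq (by rw [CfsgLib.Spor.natCard_M24]; norm_num) hA ha, cA]

/-- centralisers of elements of order 11 in `M₂₄` -/
theorem m24_cent_11 {a : M24} (ha : orderOf a = 11) :
    Nat.card (Subgroup.centralizer ({a} : Set M24)) = 11 := by
  have : Fact (Nat.Prime 11) := ⟨by norm_num⟩
  obtain ⟨A, B, C, D, hA, hB, hC, hD, cA, cB, -⟩ := CfsgLib.Spor.m24_data
  rw [card_centralizer_eq (by rw [CfsgLib.Spor.natCard_M24]; norm_num) hB ha, cB]

end CfsgLib.Spor.J4Out
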