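import Cfsg.Agent.Lib.Spor.J4Out.Coset
import Cfsg.Agent.Lib.Spor.J4Out.M24Cent
import Cfsg.Agent.Lib.Spor.J4.M24Iso

/-!
`Out J4` is trivial as soon as `J4` is known to be simple of its order with the subgroup `2^11:M24` of
index 173067389 having at most twenty orbits of the known sizes under `⟨x, y⟩`.
-/

set_option autoImplicit false
set_option maxRecDepth 100000

namespace CfsgLib.Spor.J4Out

open Cfsg.Spor CfsgLib.Spor.J4Rep

theorem extra_one {r : FreeGroup J4.Gen} (h : r ∈ J4.extra) :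
    PresentedGroup.mk (coxRelators J4.edges ∪ {r | r ∈ J4.extra}) r = 1 :=
  PresentedGroup.one_of_mem (Or.inr h)

theorem xyRels : CfsgLib.Spor.J4.M24Rels (wval [0]) (wval [1]) := by
  have hx : wval [0] = PresentedGroup.mk (coxRelators J4.edges ∪ {r | r ∈ J4.extra}) J4.x := by
    simp [wval, wordF, letF]
  have hy : wval [1] = PresentedGroup.mk (coxRelators J4.edges ∪ {r | r ∈ J4.extra}) J4.y := by
    simp [wval, wordF, letF]
  rw [hx, hy]
  constructor <;> simp only [← map_pow, ← map_mul, ← map_inv] <;> refine extra_one ?_ <;>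
    simp only [J4.extra, List.mem_cons, List.not_mem_nil, or_false, eq_self, true_or, or_true]

/-- `M₂₄` onto `⟨x, y⟩` -/
noncomputable def rho : Cfsg.M24 →* J4 := CfsgLib.Spor.J4.M24Iso.toHom xyRels

theorem range_rho : rho.range = Subgroup.closure ({wval [0], wval [1]} : Set J4) :=
  CfsgLib.Spor.J4.M24Iso.range_toHom xyRels

/-- the third generator of `2^11:M24` as printed -/
def thirdW : List ℕ :=
  List.flatten (List.replicate 3 ([1] ++ [4, 1] ++ (List.replicate 4 [4, 2]).flatten ++ [3] ++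
    (List.replicate 4 [1, 0]).flatten ++ [2, 0]))

theorem thirdW_wordF : wordF thirdW =
    (J4.y * ((J4.y * J4.x) ^ 4 * J4.y⁻¹ * J4.x)⁻¹ * J4.t *
      ((J4.y * J4.x) ^ 4 * J4.y⁻¹ * J4.x)) ^ 3 := by
  decide +kernel

theorem rep_third : rep (wval thirdW) = rep ef :=
  (Img.word (P := pF) (by decide +kernel)).eq img_f (by decide +kernel)

/-- the subgroup of the printed statement is `⟨x, y, ef⟩` -/
theorem printed_eq (hinj : Function.Injective rep) :
    (Subgroup.closure ({J4.x, J4.y, (J4.y * ((J4.y * J4.x) ^ 4 * J4.y⁻¹ * J4.x)⁻¹ * J4.t *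
      ((J4.y * J4.x) ^ 4 * J4.y⁻¹ * J4.x)) ^ 3} : Set (FreeGroup J4.Gen))).map
        (PresentedGroup.mk (coxRelators J4.edges ∪ {r | r ∈ J4.extra})) =
      Subgroup.closure ({wval [0], wval [1], ef} : Set J4) := by
  rw [MonoidHom.map_closure, Set.image_insert_eq, Set.image_insert_eq, Set.image_singleton,
    ← thirdW_wordF]
  have h3 : PresentedGroup.mk (coxRelators J4.edges ∪ {r | r ∈ J4.extra}) (wordF thirdW) = ef :=
    hinj rep_third
  rw [h3]
  simp [wval, wordF, letF]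

theorem out_J4_of_kit [Finite J4] [IsSimpleGroup J4]
    (hG : Nat.card J4 = 86775571046077562880) {H : Subgroup J4}
    (hH : H = Subgroup.closure ({wval [0], wval [1], ef} : Set J4)) (hidx : H.index = 173067389)
    (pts : Fin 20 → J4 ⧸ H)
    (hcov : ∀ g : J4 ⧸ H, ∃ i, ∃ m : J4,
      m ∈ Subgroup.closure ({wval [0], wval [1]} : Set J4) ∧ m • pts i = g)
    (hsize : ∀ i, Nat.card {g : J4 ⧸ H // ∃ m : J4,
      m ∈ Subgroup.closure ({wval [0], wval [1]} : Set J4) ∧ m • pts i = g} ≤ nodeSize i) :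
    Nat.card (Cfsg.Out J4) = 1 := by
  have hmem : ∀ (i : Fin 20) (g : J4 ⧸ H), (∃ m : Cfsg.M24, rho m • pts i = g) ↔
      ∃ m : J4, m ∈ Subgroup.closure ({wval [0], wval [1]} : Set J4) ∧ m • pts i = g := by
    intro i g
    rw [← range_rho]
    exact ⟨fun ⟨m, hm⟩ => ⟨_, ⟨m, rfl⟩, hm⟩, fun ⟨_, ⟨m, rfl⟩, hm⟩ => ⟨m, hm⟩⟩
  refine outer_card (M := Cfsg.M24) (ρ := rho) (p := CfsgLib.Spor.J4.M24Iso.ga)
    (q := CfsgLib.Spor.J4.M24Iso.gb) rep_injective hG CfsgLib.Spor.natCard_M24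
    CfsgLib.Spor.J4.M24Iso.gen_top (fun a h => m24_cent_23 h) (fun a h => m24_cent_11 h)
    (CfsgLib.Spor.J4.M24Iso.toHom_ga xyRels) (CfsgLib.Spor.J4.M24Iso.toHom_gb xyRels) hH hidx pts
    (fun g => ?_) (fun i => ?_)
  · obtain ⟨i, hi⟩ := hcov g
    exact ⟨i, (hmem i g).2 hi⟩
  · exact (Nat.card_congr (Equiv.subtypeEquivRight (hmem i))).le.trans (hsize i)

end CfsgLib.Spor.J4Out
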