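import Cfsg.Agent.Lib.Spor.OutKit.Bound

/-!
Outer automorphisms of a group generated like the Janko group `J₄`: an element `a` of order `23`,
an element `b` of order `22` inducing all automorphisms of `⟨a⟩`, and an involution `e` commuting
with `b ^ 2`.
-/

set_option autoImplicit false

namespace CfsgLib.Spor.J4Out

open Cfsg

variable {G : Type*} [Group G] [Finite G]

/-- the product `∏ a ^ i * e * a ^ (-i)` over a list of exponents -/
def relProd (a e : G) (l : List ℕ) : G := (l.map fun i => a ^ i * e * (a ^ i)⁻¹).prod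

omit [Finite G] in
theorem map_relProd (φ : MulAut G) (a e : G) (l : List ℕ) :
    φ (relProd a e l) = relProd (φ a) (φ e) l := by
  simp only [relProd, map_list_prod, List.map_map]
  exact congrArg List.prod (List.map_congr_left fun i _ => by
    simp [map_mul, map_inv, map_pow])

theorem natCard_out {a b e k : G} (hp2 : ¬ 23 ^ 2 ∣ Nat.card G) (ha : orderOf a = 23)
    (hb : b * a * b⁻¹ = a ^ 5) (hgen : Subgroup.closure ({a, b, e} : Set G) = ⊤)
    (hC : ∀ g : G, g * a = a * g → ∃ t : ℕ, g = a ^ t)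
    (he2 : e ^ 2 = 1) (he1 : e ≠ 1) (heb : e * b ^ 2 = b ^ 2 * e)
    (hinv : ∀ g : G, g ^ 2 = 1 → g ≠ 1 → g * b ^ 2 = b ^ 2 * g →
      ∃ j < 11, g = k ^ j * b ^ 11)
    (l : List ℕ) (hrel : relProd a e l = 1)
    (hne : ∀ j < 11, relProd a (k ^ j * b ^ 11) l = 1 → k ^ j * b ^ 11 = e) :
    Nat.card (Out G) = 1 := by
  classical
  have : Fact (Nat.Prime 23) := ⟨by norm_num⟩
  have hone : (1 : ℕ) ≤ Nat.card (Out G) := Nat.card_pos
  refine le_antisymm ?_ hone
  refine (CfsgLib.SporOut.natCard_out_le (p := 23) hp2 (s := 5) ha hb hgen ?_ [1] ?_ hC {(a, e)}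
    ?_).trans (by simp)
  · show ((5 : ℕ) : ZMod 23) - 1 ≠ 0
    decide +revert
  · decide +kernel
  · rintro φ hφb ⟨r, hr, hφa⟩
    obtain rfl : r = 1 := List.mem_singleton.1 hr
    rw [pow_one] at hφa
    have h2 : φ e ^ 2 = 1 := by rw [← map_pow, he2, map_one]
    have h1 : φ e ≠ 1 := fun h => he1 (φ.injective (h.trans (map_one φ).symm))
    have hc : φ e * b ^ 2 = b ^ 2 * φ e := by
      have := congrArg φ heb
      rwa [map_mul, map_mul, map_pow, hφb] at this
    obtain ⟨j, hj, hje⟩ := hinv _ h2 h1 hc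
    have hr' : relProd a (φ e) l = 1 := by
      have := map_relProd φ a e l
      rwa [hrel, map_one, hφa, eq_comm] at this
    rw [hje] at hr'
    simp [hφa, hje, hne j hj hr']

end CfsgLib.Spor.J4Out
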