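import Cfsg.Agent.Lib.Spor.J4Out.Fix

/-!
The fixed points of elements of order 23 and 11 of a group of order 244823040 on the 173067389
cosets of a subgroup `2^11:M24`, from the sizes of its twenty orbits.
-/

set_option autoImplicit false

namespace CfsgLib.Spor.J4Out

open MulAction

variable {M : Type*} [Group M] [Finite M] {X : Type*} [MulAction M X] [Finite X]

/-- the orbit sizes of `M24` on the cosets of `2^11:M24` in `J4` -/
def nodeSize : Fin 20 → ℕ :=
  ![1, 3795, 5100480, 318780, 81607680, 40803840, 212520, 7650720, 2550240, 15301440, 12241152,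
    478170, 1912680, 1275120, 2550240, 967680, 53130, 26565, 1771, 11385]

theorem sum_nodeSize : ∑ i, nodeSize i = 173067389 := by decide

theorem sized_nodes {q : ℕ} (hq : q = 11 ∨ q = 23) :
    ∀ i, ¬ q ∣ nodeSize i → i = 0 ∨ i = 15 := by
  rcases hq with rfl | rfl <;> decide

/-- the fixed points of an element of order `q` lie in the two orbits of size prime to `q` -/
theorem card_fixed_le (hM : Nat.card M = 244823040) (p : Fin 20 → X)
    (hcov : ∀ x, ∃ i, x ∈ orbit M (p i))
    (hn : ∀ i, Nat.card (orbit M (p i)) = nodeSize i)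
    {q : ℕ} (hq : q = 11 ∨ q = 23) (a : M) (ha : orderOf a = q) (c : ℕ)
    (hcent : Nat.card (Subgroup.centralizer ({a} : Set M)) ≤ c) :
    Nat.card {x : X // a • x = x} ≤
      1 + (if q = 23 then 22 else 230) * c / 253 := by
  classical
  have hqp : q.Prime := by rcases hq with rfl | rfl <;> norm_num
  have hq2 : ¬ q ^ 2 ∣ Nat.card M := by rw [hM]; rcases hq with rfl | rfl <;> norm_num
  have hloc : ∀ x : X, a • x = x → x ∈ orbit M (p 0) ∨ x ∈ orbit M (p 15) := by
    intro x hx
    obtain ⟨i, hi⟩ := hcov x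
    have hd := not_dvd_orbit hqp hq2 ha hx
    rw [orbit_eq_iff.2 hi, hn] at hd
    rcases sized_nodes hq i hd with rfl | rfl
    · exact Or.inl hi
    · exact Or.inr hi
  have h0 : Nat.card {x : X // x ∈ orbit M (p 0) ∧ a • x = x} ≤ 1 := by
    refine (Nat.card_le_card_of_injective (fun x => (⟨x.1, x.2.1⟩ : orbit M (p 0))) ?_).trans
      (hn 0).le
    intro x y e
    exact Subtype.ext (congrArg (fun z => z.1) e)
  have hS : Nat.card (stabilizer M (p 15)) = 253 := by
    have e := natCard_orbit_mul_stabilizer (M := M) (p 15)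
    rw [hn 15, hM] at e
    have h15 : nodeSize 15 = 967680 := rfl
    rw [h15] at e
    omega
  have h15 : Nat.card {x : X // x ∈ orbit M (p 15) ∧ a • x = x} ≤
      (if q = 23 then 22 else 230) * c / 253 := by
    have h := card_fixed_orbit_mul_le a (p 15)
    rw [hS, ha] at h
    refine (Nat.le_div_iff_mul_le (by norm_num)).2 (h.trans (Nat.mul_le_mul ?_ hcent))
    obtain ⟨e1, e2⟩ := card_orderOf_253 hS
    rcases hq with rfl | rfl
    · rw [if_neg (by norm_num)]; exact e2
    · rw [if_pos rfl]; exact e1
  refine le_trans ?_ (Nat.add_le_add h0 h15)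
  rw [← Nat.card_sum]
  refine Nat.card_le_card_of_injective (fun x => if h : x.1 ∈ orbit M (p 0) then
    Sum.inl ⟨x.1, h, x.2⟩ else Sum.inr ⟨x.1, (hloc x.1 x.2).resolve_left h, x.2⟩) ?_
  intro x y e
  simp only at e
  split at e <;> split at e <;> simp at e <;> exact Subtype.ext e

end CfsgLib.Spor.J4Out
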