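import Cfsg.Agent.Lib.Spor.J4Out.Inner
import Cfsg.Agent.Lib.Spor.J4Out.Count
import Cfsg.Agent.Lib.Spor.J4Out.Abstract

/-!
Outer automorphisms of `J4`, given a faithful representation, the order, and the action of a copy of
`M₂₄` on the cosets of the subgroup generated by it and `ef`.
-/

set_option autoImplicit false
set_option maxRecDepth 100000

namespace CfsgLib.Spor.J4Out

open Cfsg.Spor CfsgLib.Spor.J4Rep MulAction

/-- the value in a group of a word in two letters and the inverse of the second -/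
def letM {M : Type*} [Group M] (p q : M) : ℕ → M
  | 0 => p
  | 1 => q
  | _ => q⁻¹

theorem hW_letters : ∀ l ∈ hW, l < 3 := by decide +kernel

variable {M : Type*} [Group M] [Finite M] {ρ : M →* J4} {p q : M}

theorem map_word (hp : ρ p = wval [0]) (hq : ρ q = wval [1]) :
    ∀ w : List ℕ, (∀ l ∈ w, l < 3) → ρ ((w.map (letM p q)).prod) = wval w
  | [], _ => by simp [wval_nil]
  | l :: w, h => by
    rw [List.map_cons, List.prod_cons, map_mul,
      map_word hp hq w fun k hk => h k (List.mem_cons_of_mem _ hk),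
      show l :: w = [l] ++ w from rfl, wval_append]
    congr 1
    have hl := h l List.mem_cons_self
    interval_cases l
    · exact hp
    · exact hq
    · show ρ q⁻¹ = _
      rw [map_inv, hq]
      simp [wval, wordF, letF]

/-- an element of `2^11:M24` -/
def hElt (ρ : M →* J4) (cm : Fin 2048 × M) : J4 := prodM fList cm.1.1 * ρ cm.2

theorem outer_card [Finite J4] (hinj : Function.Injective rep)
    (hG : Nat.card J4 = 86775571046077562880) (hM : Nat.card M = 244823040)
    (hgen : Subgroup.closure ({p, q} : Set M) = ⊤)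
    (hc23 : ∀ a : M, orderOf a = 23 → Nat.card (Subgroup.centralizer ({a} : Set M)) = 23)
    (hc11 : ∀ a : M, orderOf a = 11 → Nat.card (Subgroup.centralizer ({a} : Set M)) = 11)
    (hp : ρ p = wval [0]) (hq : ρ q = wval [1]) {H : Subgroup J4}
    (hH : H = Subgroup.closure ({wval [0], wval [1], ef} : Set J4)) (hidx : H.index = 173067389)
    (pts : Fin 20 → J4 ⧸ H)
    (hcov : ∀ g : J4 ⧸ H, ∃ i, ∃ m : M, ρ m • pts i = g)
    (hsize : ∀ i, Nat.card {g : J4 ⧸ H // ∃ m : M, ρ m • pts i = g} ≤ nodeSize i) :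
    Nat.card (Cfsg.Out J4) = 1 := by
  classical
  -- the subgroup
  have hXH : wval [0] ∈ H := hH ▸ Subgroup.subset_closure (Or.inl rfl)
  have hYH : wval [1] ∈ H := hH ▸ Subgroup.subset_closure (Or.inr (Or.inl rfl))
  have hfH : ef ∈ H := hH ▸ Subgroup.subset_closure (Or.inr (Or.inr rfl))
  have haH : ea ∈ H := by
    rw [ea, show ([0, 1] : List ℕ) = [0] ++ [1] from rfl, wval_append]
    exact H.mul_mem hXH hYH
  have hρH : ∀ m, ρ m ∈ H := by
    intro m
    have : Subgroup.closure ({p, q} : Set M) ≤ H.comap ρ := by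
      rw [Subgroup.closure_le]
      rintro _ (rfl | rfl)
      · simpa [hp] using hXH
      · simpa [hq] using hYH
    exact this (hgen ▸ Subgroup.mem_top m)
  have hprodH : ∀ (l : List ℕ) (c : ℕ),
      prodM (l.map fun i => ea ^ i * ef * (ea ^ i)⁻¹) c ∈ H := by
    intro l
    induction l with
    | nil => intro c; exact H.one_mem
    | cons i l ih =>
      intro c
      rw [List.map_cons, prodM]
      refine H.mul_mem ?_ (ih _)
      cases Nat.beq (c % 2) 1
      · exact H.one_mem
      · exact H.mul_mem (H.mul_mem (H.pow_mem haH i) hfH) (H.inv_mem (H.pow_mem haH i))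
  have hHsub : ∀ g ∈ H, ∃ cm, hElt ρ cm = g := by
    intro g hg
    rw [hH, ← Subgroup.mem_toSubmonoid, Subgroup.closure_toSubmonoid_of_finite] at hg
    induction hg using Submonoid.closure_induction_left with
    | one => exact ⟨(⟨0, by norm_num⟩, 1), by simp [hElt, prodM_zero]⟩
    | mul_left s hs t _ ih =>
      obtain ⟨⟨c, m⟩, rfl⟩ := ih
      rcases hs with rfl | rfl | rfl
      · refine ⟨(⟨xorL maskX c.1, xorL_lt (n := 11) _ (masks_lt maskX (by simp))⟩, p * m), ?_⟩
        simp only [hElt, map_mul, hp, ← conjX hinj c.1]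
        group
      · refine ⟨(⟨xorL maskY c.1, xorL_lt (n := 11) _ (masks_lt maskY (by simp))⟩, q * m), ?_⟩
        simp only [hElt, map_mul, hq, ← conjY hinj c.1]
        group
      · refine ⟨(⟨1 ^^^ c.1, Nat.xor_lt_two_pow (n := 11) (by norm_num) c.2⟩, m), ?_⟩
        have h1 : prodM fList 1 = ef := by
          rw [fList, show List.range 11 = 0 :: (List.range 10).map Nat.succ from
            List.range_succ_eq_map, List.map_cons, prodM, show (1 : ℕ) / 2 = 0 from rfl, prodM_zero]
          simp
        simp only [hElt, ← prodM_mul fList 1 c.1 (fList_sq hinj) (fList_comm hinj), h1, mul_assoc]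
  have hHcard : Nat.card H = 2048 * 244823040 := by
    have := H.card_mul_index
    rw [hidx, hG] at this
    omega
  have hΦmem : ∀ cm, hElt ρ cm ∈ H := fun cm => H.mul_mem (hprodH _ _) (hρH _)
  have hΦ : Function.Bijective (fun cm => (⟨hElt ρ cm, hΦmem cm⟩ : H)) := by
    refine Function.Surjective.bijective_of_nat_card_le ?_ (le_of_eq ?_)
    · rintro ⟨g, hg⟩
      obtain ⟨cm, e⟩ := hHsub g hg
      exact ⟨cm, Subtype.ext e⟩
    · rw [Nat.card_prod, hM, hHcard]; simp
  have hΦinj : ∀ {cm cm'}, hElt ρ cm = hElt ρ cm' → cm = cm' := fun e => hΦ.1 (Subtype.ext e)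
  have hρinj : Function.Injective ρ := by
    intro m m' e
    exact congrArg Prod.snd (hΦinj (cm := (0, m)) (cm' := (0, m')) (by simp [hElt, e]))
  -- the centralisers inside `H`
  have hcentH : ∀ (g : J4) (γ : M) (L : List ℕ) (F : Finset ℕ) (k : ℕ), ρ γ = g →
      (∀ m ∈ L, m < 2 ^ 11) → (∀ c, g * prodM fList c * g⁻¹ = prodM fList (xorL L c)) →
      (∀ c < 2048, xorL L c = c → c ∈ F) →
      Nat.card (Subgroup.centralizer ({γ} : Set M)) ≤ k →
      Nat.card (Subgroup.centralizer ({g} : Set J4) ⊓ H : Subgroup J4) ≤ F.card * k := by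
    intro g γ L F k hγ hL hconj hfix hk
    have hdec : ∀ u : (Subgroup.centralizer ({g} : Set J4) ⊓ H : Subgroup J4),
        ∃ (c : Fin 2048) (m : M), hElt ρ (c, m) = (u : J4) ∧ c.1 ∈ F ∧
          m ∈ Subgroup.centralizer ({γ} : Set M) := by
      intro u
      obtain ⟨⟨c, m⟩, hcm⟩ := hHsub _ u.2.2
      refine ⟨c, m, hcm, ?_⟩
      have hcomm : g * hElt ρ (c, m) = hElt ρ (c, m) * g := by
        rw [hcm]; exact Subgroup.mem_centralizer_iff.1 u.2.1 g rfl
      have e : hElt ρ (⟨xorL L c.1, xorL_lt _ hL⟩, γ * m) = hElt ρ (c, m * γ) := by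
        simp only [hElt, map_mul, hγ, ← hconj] at hcomm ⊢
        calc g * prodM fList c.1 * g⁻¹ * (g * ρ m) = g * (prodM fList c.1 * ρ m) := by group
          _ = prodM fList c.1 * ρ m * g := hcomm
          _ = prodM fList c.1 * (ρ m * g) := by group
      have e' := hΦinj e
      exact ⟨hfix _ c.2 (congrArg (fun z => z.1.1) e'),
        Subgroup.mem_centralizer_singleton_iff.2 (congrArg Prod.snd e').symm⟩
    choose c m hcm hF hmC using hdec
    refine le_trans (Nat.card_le_card_of_injective
      (fun u => ((⟨(c u).1, hF u⟩ : F), (⟨m u, hmC u⟩ : Subgroup.centralizer ({γ} : Set M)))) ?_) ?_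
    · intro u v e
      obtain ⟨e1, e2⟩ := Prod.mk.inj e
      refine Subtype.ext ?_
      rw [← hcm u, ← hcm v, show c u = c v from Fin.ext (congrArg Subtype.val e1),
        show m u = m v from congrArg Subtype.val e2]
    · rw [Nat.card_prod, Nat.card_eq_fintype_card, Fintype.card_coe]
      exact Nat.mul_le_mul_left _ hk
  -- the two elements in `M`
  obtain ⟨γa, hγa⟩ : ∃ γ, ρ γ = ea :=
    ⟨p * q, by rw [map_mul, hp, hq, ea, show ([0, 1] : List ℕ) = [0] ++ [1] from rfl, wval_append]⟩
  obtain ⟨γh, hγh⟩ : ∃ γ, ρ γ = eh := ⟨_, map_word hp hq hW hW_letters⟩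
  have hoa : orderOf γa = 23 := by rw [← orderOf_injective ρ hρinj, hγa, order_ea hinj]
  have hoh : orderOf γh = 11 := by rw [← orderOf_injective ρ hρinj, hγh, order_eh hinj]
  -- the orbits
  let _ : MulAction M (J4 ⧸ H) := MulAction.compHom _ ρ
  have hXcard : Nat.card (J4 ⧸ H) = 173067389 := by rw [← hidx]; rfl
  have hle : ∀ i, Nat.card (orbit M (pts i)) ≤ nodeSize i := fun i => hsize i
  have hcov' : ∀ g, ∃ i, g ∈ orbit M (pts i) := fun g => hcov g
  have hn := orbit_card_eq pts nodeSize hcov' hle (by rw [sum_nodeSize, hXcard])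
  have hfix23 : Nat.card {x : J4 ⧸ H // ea • x = x} ≤ 3 := by
    have := card_fixed_le hM pts hcov' hn (Or.inr rfl) γa hoa 23 (hc23 _ hoa).le
    rw [← hγa]
    exact this
  have hfix11 : Nat.card {x : J4 ⧸ H // eh • x = x} ≤ 11 := by
    have := card_fixed_le hM pts hcov' hn (Or.inl rfl) γh hoh 11 (hc11 _ hoh).le
    rw [← hγh]
    exact this
  have hstab : stabilizer J4 ((1 : J4) : J4 ⧸ H) = H := stabilizer_quotient H
  have hbase : ∀ g ∈ H, g • ((1 : J4) : J4 ⧸ H) = ((1 : J4) : J4 ⧸ H) := fun g hg => by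
    rw [← hstab] at hg; exact hg
  have hCh : Nat.card (Subgroup.centralizer ({eh} : Set J4)) ≤ 242 := by
    refine (card_centralizer_le eh _ (hbase _ (hγh ▸ hρH γh)) 11 22 hfix11 ?_).trans (by norm_num)
    rw [hstab]
    exact (hcentH eh γh maskH {0, 1557} 11 hγh (masks_lt maskH (by simp)) (conjH hinj)
      (fun c hc h => by simpa using fixH_masks c hc h) (hc11 _ hoh).le).trans (by decide)
  have hCa : Nat.card (Subgroup.centralizer ({ea} : Set J4)) ≤ 69 := by
    refine (card_centralizer_le ea _ (hbase _ haH) 3 23 hfix23 ?_).trans (by norm_num)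
    rw [hstab]
    exact (hcentH ea γa maskA {0} 23 hγa (masks_lt maskA (by simp)) (conjA hinj)
      (fun c hc h => by simpa using fixA_masks c hc h) (hc23 _ hoa).le).trans (by decide)
  have hinv := involutions_commuting hinj hCh
  have hbab : eb * ea * eb⁻¹ = ea ^ 5 := hinj rep_bab
  -- the centraliser of `ea`
  have hC : ∀ g : J4, g * ea = ea * g → ∃ t : ℕ, g = ea ^ t := by
    intro g hg
    set C := Subgroup.centralizer ({ea} : Set J4) with hCdef
    have haC : ea ∈ C := Subgroup.mem_centralizer_singleton_iff.2 rfl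
    have hgC : g ∈ C := Subgroup.mem_centralizer_singleton_iff.2 hg
    have hdvd : 23 ∣ Nat.card C := by
      have := Subgroup.orderOf_dvd_natCard C haC
      rwa [order_ea hinj] at this
    obtain ⟨c, hc⟩ := hdvd
    have hc1 : c = 1 ∨ c = 2 ∨ c = 3 := by
      have : 0 < Nat.card C := Nat.card_pos
      omega
    rcases hc1 with rfl | hc23'
    · have e : Subgroup.zpowers ea = C := Subgroup.eq_of_le_of_card_ge
        (Subgroup.zpowers_le.2 haC) (by rw [hc, Nat.card_zpowers, order_ea hinj])
      obtain ⟨t, ht⟩ := (isOfFinOrder_of_finite ea).mem_powers_iff_mem_zpowers.2 (e ▸ hgC)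
      exact ⟨t, ht.symm⟩
    exfalso
    have hcp : c.Prime := by rcases hc23' with rfl | rfl <;> norm_num
    have : Fact c.Prime := ⟨hcp⟩
    obtain ⟨u, hu⟩ := exists_prime_orderOf_dvd_card' (G := C) c ⟨23, by rw [hc, mul_comm]⟩
    have hu' : orderOf (u : J4) = c := by rw [Subgroup.orderOf_coe, hu]
    have hua : Commute (u : J4) ea := Subgroup.mem_centralizer_singleton_iff.1 u.2
    let w : C := ⟨ea * u, C.mul_mem haC u.2⟩
    have hw : orderOf w = Nat.card C := by
      rw [← Subgroup.orderOf_coe, hc]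
      show orderOf (ea * (u : J4)) = _
      rw [hua.symm.orderOf_mul_eq_mul_orderOf_of_coprime, order_ea hinj, hu']
      rw [order_ea hinj, hu']
      rcases hc23' with rfl | rfl <;> norm_num
    have hcyc : IsCyclic C := isCyclic_of_orderOf_eq_card w hw
    have hbu : eb * (u : J4) * eb⁻¹ ∈ C := by
      refine Subgroup.mem_centralizer_singleton_iff.2 ?_
      have h5 : Commute (u : J4) (eb⁻¹ * ea * eb) := by
        have e : eb⁻¹ * ea * eb = ea ^ 14 := by
          have h1 : eb * ea ^ 14 * eb⁻¹ = ea := by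
            rw [← conj_pow, hbab, ← pow_mul, show (5 : ℕ) * 14 = 23 * 3 + 1 from rfl, pow_add,
              pow_mul, ← order_ea hinj, pow_orderOf_eq_one, one_pow, one_mul, pow_one]
          calc eb⁻¹ * ea * eb = eb⁻¹ * (eb * ea ^ 14 * eb⁻¹) * eb := by rw [h1]
            _ = ea ^ 14 := by group
        rw [e]; exact hua.pow_right 14
      calc eb * (u : J4) * eb⁻¹ * ea = eb * ((u : J4) * (eb⁻¹ * ea * eb)) * eb⁻¹ := by group
        _ = eb * ((eb⁻¹ * ea * eb) * (u : J4)) * eb⁻¹ := by rw [h5.eq]
        _ = ea * (eb * (u : J4) * eb⁻¹) := by group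
    have hbord : orderOf (⟨_, hbu⟩ : C) = c := by
      rw [← Subgroup.orderOf_coe]
      show orderOf (MulAut.conj eb (u : J4)) = c
      rw [MulEquiv.orderOf_eq, hu']
    have hzp : (⟨_, hbu⟩ : C) ∈ Subgroup.zpowers u := by
      let _ : Fintype C := Fintype.ofFinite _
      have hle := IsCyclic.card_pow_eq_one_le (α := C) hcp.pos
      let T := Finset.univ.filter fun x : C => x ^ c = 1
      have hsub : ((Subgroup.zpowers u : Subgroup C) : Set C).toFinset ⊆ T := by
        intro x hx
        obtain ⟨n, rfl⟩ := Subgroup.mem_zpowers_iff.1 (Set.mem_toFinset.1 hx)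
        simp only [T, Finset.mem_filter, Finset.mem_univ, true_and]
        rw [← zpow_natCast, ← zpow_mul, mul_comm, zpow_mul, zpow_natCast, ← hu, pow_orderOf_eq_one,
          one_zpow]
      have heq := Finset.eq_of_subset_of_card_le hsub (hle.trans (le_of_eq (by
        rw [Set.toFinset_card, ← Nat.card_eq_fintype_card]
        exact hu.symm.trans (Nat.card_zpowers u).symm)))
      refine Set.mem_toFinset.1 (heq ▸ ?_)
      simp only [T, Finset.mem_filter, Finset.mem_univ, true_and]
      rw [← hbord, pow_orderOf_eq_one]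
    obtain ⟨r, hr⟩ := (isOfFinOrder_of_finite u).mem_powers_iff_mem_zpowers.2 hzp
    have hr' : eb * (u : J4) * eb⁻¹ = (u : J4) ^ r := by
      simpa using (congrArg Subtype.val hr).symm
    have hr2 : eh * (u : J4) * eh⁻¹ = (u : J4) ^ (r * r) := by
      rw [← bb hinj]
      calc eb ^ 2 * (u : J4) * (eb ^ 2)⁻¹ = eb * (eb * (u : J4) * eb⁻¹) * eb⁻¹ := by
            simp only [pow_two, mul_inv_rev, mul_assoc]
        _ = (eb * (u : J4) * eb⁻¹) ^ r := by rw [hr', ← conj_pow, hr']
        _ = (u : J4) ^ (r * r) := by rw [hr', pow_mul]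
    have hrr : (u : J4) ^ (r * r) = u := by
      conv_rhs => rw [← pow_one (u : J4)]
      rw [pow_eq_pow_iff_modEq, hu']
      have hr0 : ¬ c ∣ r := by
        intro h
        have h1 : (u : J4) ^ r = 1 := orderOf_dvd_iff_pow_eq_one.1 (hu' ▸ h)
        rw [← hr', conj_eq_one_iff] at h1
        rw [h1, orderOf_one] at hu'
        exact hcp.ne_one hu'.symm
      rcases hc23' with rfl | rfl
      · show r * r % 2 = 1 % 2
        rw [Nat.mul_mod]
        have : r % 2 = 1 := by omega
        rw [this]
      · show r * r % 3 = 1 % 3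
        rw [Nat.mul_mod]
        have : r % 3 = 1 ∨ r % 3 = 2 := by omega
        rcases this with h | h <;> rw [h]
    have huh : (u : J4) * eh = eh * u := by
      rw [hrr] at hr2
      exact (mul_inv_eq_iff_eq_mul.1 hr2).symm
    rcases hc23' with rfl | rfl
    · obtain ⟨j, hj, e⟩ := hinv u (orderOf_dvd_iff_pow_eq_one.1 (hu' ▸ dvd_rfl))
        (fun h => by rw [h, orderOf_one] at hu'; norm_num at hu') huh
      exact rep_not_comm j hj (congrArg rep (e ▸ hua.eq))
    · have h3 : 3 ∣ Nat.card (Subgroup.centralizer ({eh} : Set J4)) := by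
        have := Subgroup.orderOf_dvd_natCard _ (Subgroup.mem_centralizer_singleton_iff.2 huh)
        rwa [hu'] at this
      -- the centraliser of `eh` has order at most 242 and contains a subgroup of order 242
      have h242 : 242 ≤ Nat.card (Subgroup.centralizer ({eh} : Set J4)) := le_card_cent hinj
      have := le_antisymm hCh h242
      rw [this] at h3
      norm_num at h3
  refine natCard_out (a := ea) (b := eb) (e := ee) (k := ee * eb ^ 11) ?_ (order_ea hinj) hbab
    (closure_abe hinj) hC (hinj rep_e2) (fun h => rep_e_ne (congrArg rep h))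
    (by rw [bb hinj]; exact hinj rep_eh) ?_ relExp (hinj rep_rel) ?_
  · rw [hG]; norm_num
  · intro g h2 h1 hc
    rw [bb hinj] at hc
    exact hinv g h2 h1 hc
  · intro j hj hrel
    by_contra hne
    rcases eq_or_ne j 1 with rfl | hj1
    · refine hne ?_
      rw [pow_one, mul_assoc, ← pow_add, show 11 + 11 = 22 from rfl,
        show eb ^ 22 = 1 from hinj rep_b22, mul_one]
    · exact rep_rel_ne j hj hj1 (congrArg rep hrel)

end CfsgLib.Spor.J4Out
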