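import Mathlib

/-!
Words for the outer automorphism computation in `J4` (letters `0,1,2,3` for `x, y, y⁻¹, t`; tokens
`0,1,2,3,4` for `a, a⁻¹, b, b⁻¹, e`).
-/

set_option autoImplicit false

namespace CfsgLib.Spor.J4Out

/-- an element of order 22 normalising `⟨xy⟩` -/
def bW : List ℕ := [
  1, 0, 1, 0, 2, 0, 2, 0, 2, 0, 2, 3, 1, 0, 1, 0, 1, 0, 1, 0, 2, 0, 1, 0, 1, 0, 2, 0, 2, 0, 2,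
  0, 2, 3, 1, 0, 1, 0, 1, 0, 1, 0, 2, 0, 1, 0, 1, 0, 2, 0, 2, 0, 2, 0, 2, 3, 1, 0, 1, 0, 2, 0,
  2, 0, 2, 0, 2, 0, 2, 3, 1, 0, 1, 0, 1, 0, 1, 0, 2, 0, 1, 0, 1, 0, 2, 0, 2, 0, 2, 0, 2, 3, 1,
  0, 1, 0, 1, 0, 1, 0, 2, 0, 1, 0, 1, 0, 2, 0, 2, 0, 2, 0, 2, 3, 1, 0, 1, 0, 1, 0, 1, 0, 1, 0,
  1, 0, 2, 0, 2, 0, 2, 0, 2, 3, 1, 0, 1, 0, 1, 0, 1, 0, 2, 0, 1, 0, 1, 0, 2, 0, 2, 0, 2, 0, 2,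
  3, 1, 0, 1, 0, 1, 0, 1, 0, 2, 0, 1, 0, 1, 0, 2, 0, 2, 0, 2, 0, 2, 3, 1, 0, 1, 0, 1, 0, 1, 0,
  1, 0, 1, 0, 2, 0, 2, 0, 2, 0, 2, 3, 1, 0, 1, 0, 1, 0, 1, 0, 2, 0, 1, 0, 1, 0, 2, 0, 2, 0, 2,
  0, 2, 3, 1, 0, 1, 0, 1, 0, 1, 0, 2, 0, 1, 0, 1, 0, 2, 0, 2, 0, 2, 0, 2, 3, 1, 0, 1, 0, 2, 0,
  2, 0, 2, 0, 2, 0, 2, 3, 1, 0, 1, 0, 1, 0, 1, 0, 2, 0, 1, 0, 1, 0, 2, 0, 2, 0, 2, 0, 2, 3, 1,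
  0, 1, 0, 1, 0, 1, 0, 2, 0, 1, 0, 1, 0, 2, 0, 2, 0, 2, 0, 2, 3, 1, 0, 1, 0, 2, 0, 2, 0, 2, 0,
  2, 0, 2, 3, 1, 0, 1, 0, 1, 0, 1, 0, 2, 0, 1, 0, 1, 0, 2, 0, 2, 0, 2, 0, 2, 3, 1, 0, 1, 0, 1,
  0, 1, 0, 2, 0, 1, 0, 1, 0, 2, 0, 2, 0, 2, 0, 2, 3, 1, 0, 1, 0, 1, 0, 1, 0, 2, 0, 2, 0, 2, 0,
  2, 0, 2, 0, 2, 0, 2, 0, 2, 0, 2, 0, 1, 0, 1, 0, 2, 0, 2, 0, 1, 0, 1, 0, 2, 0, 2, 0, 1, 0, 2,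
  0, 1, 0, 2, 0, 2, 0, 2, 0, 1, 0, 2, 0, 1, 0, 2, 0, 1, 0, 2, 0, 1, 0, 1, 0, 2, 0, 1, 0, 1, 0,
  1, 0, 1, 0, 1, 0, 1, 0, 1, 0, 3, 0, 2, 0, 1, 0, 3, 2, 0, 2, 0, 2, 0, 3, 0, 2, 0, 1, 0, 3, 1,
  0, 3, 1, 0, 2, 0, 2, 0, 2, 0, 1, 0, 2, 0, 1, 0, 1, 0, 1, 0, 2, 0, 2, 0, 2, 0, 2, 0, 2, 0, 2,
  0, 2, 0, 1, 0, 1, 0, 2, 0, 2, 0, 2, 0, 2, 0, 2, 0, 2, 0, 2, 0, 2, 0, 2, 0, 1, 0, 2, 0, 1, 0,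
  1, 0]

/-- an involution commuting with the square of that element -/
def eW : List ℕ := [
  1, 0, 1, 0, 2, 0, 2, 0, 2, 0, 2, 3, 1, 0, 1, 0, 1, 0, 1, 0, 2, 0, 1, 0, 1, 0, 2, 0, 2, 0, 2,
  0, 2, 3, 1, 0, 1, 0, 1, 0, 1, 0, 2, 0, 1, 0, 1, 0, 2, 0, 2, 0, 2, 0, 2, 3, 1, 0, 1, 0, 2, 0,
  2, 0, 2, 0, 2, 0, 2, 3, 1, 0, 1, 0, 1, 0, 1, 0, 2, 0, 1, 0, 1, 0, 2, 0, 2, 0, 2, 0, 2, 3, 1,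
  0, 1, 0, 1, 0, 1, 0, 2, 0, 1, 0, 1, 0, 2, 0, 2, 0, 2, 0, 2, 3, 1, 0, 1, 0, 2, 0, 2, 0, 2, 0,
  2, 0, 2, 3, 1, 0, 1, 0, 1, 0, 1, 0, 2, 0, 1, 0, 1, 0, 2, 0, 2, 0, 2, 0, 2, 3, 1, 0, 1, 0, 1,
  0, 1, 0, 2, 0, 1, 0, 1, 0, 2, 0, 2, 0, 2, 0, 2, 3, 1, 0, 1, 0, 1, 0, 2, 0, 1, 0, 1, 0, 2, 0,
  1, 0, 2, 0, 2, 0, 2, 0, 2, 3, 1, 0, 1, 0, 1, 0, 1, 0, 2, 0, 1, 0, 1, 0, 2, 0, 2, 0, 2, 0, 2,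
  3, 1, 0, 1, 0, 1, 0, 1, 0, 2, 0, 1, 0, 1, 0, 2, 0, 2, 0, 2, 0, 2, 3, 1, 0, 1, 0, 1, 0, 1, 0,
  1, 0, 1, 0, 2, 0, 2, 0, 2, 0, 2, 3, 1, 0, 1, 0, 1, 0, 1, 0, 2, 0, 1, 0, 1, 0, 2, 0, 2, 0, 2,
  0, 2, 3, 1, 0, 1, 0, 1, 0, 1, 0, 2, 0, 1, 0, 1, 0, 2, 0, 2, 0, 2, 0, 2, 3, 1, 0, 1, 0, 1, 0,
  1, 0, 2, 0, 2, 0, 2, 0, 2, 0, 2, 0, 2, 0, 2, 0, 2, 0, 2, 0, 2, 0, 2, 0]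

/-- the square of that element, as a word in `x` and `y` -/
def hW : List ℕ := [
  0, 1, 0, 1, 0, 2, 0, 2, 0, 1, 0, 2, 0, 2, 0, 1, 0, 1, 0, 1, 0, 2, 0, 2, 0, 2, 0, 1, 0, 1, 0,
  2, 0, 2, 0, 2, 0, 2, 0, 1, 0, 2, 0, 2, 0, 2, 0, 2, 0, 2, 0, 1, 0, 1, 0, 2, 0, 2, 0, 1, 0, 2,
  0, 1, 0, 1, 0, 2, 0, 1, 0, 2, 0, 1, 0]

/-- the cube of `y·t^w` -/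
def fW : List ℕ := [
  1, 0, 1, 0, 2, 0, 2, 0, 2, 0, 2, 3, 1, 0, 1, 0, 1, 0, 1, 0, 2, 0, 1, 0, 1, 0, 2, 0, 2, 0, 2,
  0, 2, 3, 1, 0, 1, 0, 1, 0, 1, 0, 2, 0, 1, 0, 1, 0, 2, 0, 2, 0, 2, 0, 2, 3, 1, 0, 1, 0, 1, 0,
  1, 0, 2, 0]

/-- `x` in the tokens -/
def gxW : List ℕ := [
  4, 0, 4, 0, 4, 0, 0, 0, 0, 4, 0, 4, 0, 0, 0, 4, 1, 1, 1, 1, 1, 1, 1, 1, 1, 1, 2, 4, 2, 2, 2,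
  0, 4, 1, 3, 4, 2, 2, 2, 3, 0, 0, 0, 1, 1, 1, 1, 1, 3, 4, 1, 3, 3, 3, 4, 1, 1, 1, 0, 1, 2, 1,
  1, 4, 2, 0, 0, 1, 4, 4, 3, 3, 0, 0, 0, 0, 0, 0, 0, 0, 2, 2, 3, 2, 0, 1, 3, 0, 3, 1, 3, 4, 0,
  0, 3, 0, 1, 0, 0, 0, 4, 2, 2, 2, 0, 4, 2, 0, 0, 0, 0, 0, 1, 1, 1, 2, 3, 3, 3, 4, 2, 0, 4, 1,
  3, 3, 3, 4, 3, 1, 2, 4, 2, 2, 2, 0, 4, 1, 3, 4, 2, 2, 2, 3, 0, 0, 0, 1, 1, 1, 1, 1, 3, 4, 1,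
  3, 3, 3, 4, 1, 1, 1, 0, 1, 2, 1, 1, 4, 2, 2, 1, 2, 0, 1, 3, 2, 3, 3, 1, 1, 1, 1, 1, 1, 1, 1,
  2, 2, 4, 4, 0, 1, 1, 1, 1, 1, 3, 4, 0, 0, 3, 0, 1, 0, 0, 0, 4, 2, 2, 2, 0, 4, 2, 0, 0, 0, 0,
  0, 1, 1, 1, 2, 3, 3, 3, 4, 2, 0, 4, 1, 3, 3, 3, 4, 3, 0]

/-- `y` in the tokens -/
def gyW : List ℕ := [
  4, 0, 4, 0, 4, 0, 0, 0, 0, 4, 0, 4, 0, 0, 0, 4, 1, 1, 1, 1, 1, 1, 1, 1, 1, 1, 2, 4, 2, 2, 2,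
  0, 4, 1, 3, 4, 2, 2, 2, 3, 0, 0, 0, 1, 1, 1, 1, 1, 3, 4, 1, 3, 3, 3, 4, 1, 1, 1, 0, 1, 2, 1,
  1, 4, 2, 0, 0, 1, 4, 4, 3, 3, 0, 0, 0, 0, 0, 0, 0, 0, 2, 2, 3, 2, 0, 1, 3, 0, 3, 1, 3, 4, 0,
  0, 3, 0, 1, 0, 0, 0, 4, 2, 2, 2, 0, 4, 2, 0, 0, 0, 0, 0, 1, 1, 1, 2, 3, 3, 3, 4, 2, 0, 4, 1,
  3, 3, 3, 4, 3, 1, 2, 4, 2, 2, 2, 0, 4, 1, 3, 4, 2, 2, 2, 3, 0, 0, 0, 1, 1, 1, 1, 1, 3, 4, 1,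
  3, 3, 3, 4, 1, 1, 1, 0, 1, 2, 1, 1, 4, 2, 2, 1, 2, 0, 1, 3, 2, 3, 3, 1, 1, 1, 1, 1, 1, 1, 1,
  2, 2, 4, 4, 0, 1, 1, 1, 1, 1, 3, 4, 0, 0, 3, 0, 1, 0, 0, 0, 4, 2, 2, 2, 0, 4, 2, 0, 0, 0, 0,
  0, 1, 1, 1, 2, 3, 3, 3, 4, 2, 0, 4, 1, 3, 3, 3, 4, 3, 0, 0]

/-- `t` in the tokens -/
def gtW : List ℕ := [
  4, 0, 4, 0, 0, 0, 0, 0, 4, 1, 1, 1, 1, 1, 1, 3, 4, 0, 0, 3, 0, 1, 0, 0, 0, 4, 2, 2, 2, 0, 4,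
  2, 0, 0, 0, 0, 0, 1, 1, 1, 2, 3, 3, 3, 4, 2, 0, 4, 1, 3, 3, 3, 4, 3, 1, 1, 0, 0, 1, 4, 4, 3,
  3, 0, 0, 0, 0, 0, 0, 0, 0, 2, 2, 3, 2, 0, 1, 3, 0, 3, 0, 0, 1, 4, 4, 3, 3, 0, 0, 0, 0, 0, 0,
  0, 0, 2, 2, 3, 2, 0, 1, 3, 0, 3, 0, 3, 4, 0, 0, 3, 0, 1, 0, 0, 0, 4, 2, 2, 2, 0, 4, 2, 0, 0,
  0, 0, 0, 1, 1, 1, 2, 3, 3, 3, 4, 2, 0, 4, 1, 3, 3, 3, 4, 3, 0, 0, 0, 1, 4, 4, 3, 3, 0, 0, 0,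
  0, 0, 0, 0, 0, 2, 2, 3, 2, 0, 1, 3, 0, 3, 0, 3, 4, 0, 0, 3, 0, 1, 0, 0, 0, 4, 2, 2, 2, 0, 4,
  2, 0, 0, 0, 0, 0, 1, 1, 1, 2, 3, 3, 3, 4, 2, 0, 4, 1, 3, 3, 3, 4, 3, 1, 1, 0, 0, 1, 4, 4, 3,
  3, 0, 0, 0, 0, 0, 0, 0, 0, 2, 2, 3, 2, 0, 1, 3, 0, 3, 3, 1, 1, 1, 1, 1, 1, 1, 4, 2, 0, 0, 0,
  0, 0, 0, 0, 0, 4, 2, 1, 1, 1, 1, 1, 1, 1, 1, 1, 1, 1, 4, 3, 0, 0, 0, 3, 0, 0, 0, 0, 0, 0, 4,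
  3, 1, 1, 1, 1, 1, 1, 1, 1, 4, 0, 0, 0, 0, 0, 0, 0, 0, 0, 0, 2, 4, 1, 1, 1, 1, 1, 1, 1, 1, 1,
  1, 1, 2, 4, 0, 0, 0, 0, 0, 0, 0, 0, 0, 0, 2, 1, 1, 1, 1, 1, 2, 4, 0, 0, 2]

/-- the action on the basis of `2^11`, as masks -/
def maskX : List ℕ := [
  2, 1, 1843, 2022, 1546, 1033, 1203, 1412, 1523, 51, 1988]

/-- the action on the basis of `2^11`, as masks -/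
def maskY : List ℕ := [
  1, 1843, 2022, 1546, 1033, 1203, 1412, 1523, 51, 1988, 1294]

/-- the action on the basis of `2^11`, as masks -/
def maskH : List ℕ := [
  1634, 1709, 1425, 898, 1259, 1642, 1677, 1297, 386, 1544, 1797]

/-- the action on the basis of `2^11`, as masks -/
def maskA : List ℕ := [
  2, 4, 8, 16, 32, 64, 128, 256, 512, 1024, 739]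

end CfsgLib.Spor.J4Out
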