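import Cfsg.Agent.Lib.Spor.J4Out.Img
import Cfsg.Agent.Lib.Spor.J4Out.Data
import Cfsg.Agent.Lib.Spor.J4Out.DataMat

/-!
The elements used for the outer automorphisms of `J4` and their identities in the representation of
degree 112, checked by the kernel.
-/

set_option autoImplicit false
set_option maxRecDepth 100000

namespace CfsgLib.Spor.J4Out

open Cfsg.Spor CfsgLib.Spor.J4Rep

/-- the element of order 23 -/
def ea : J4 := wval [0, 1]

/-- the element of order 22 -/
def eb : J4 := wval bW

/-- the involution commuting with the square of `eb` -/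
def ee : J4 := wval eW

/-- an element of the normal subgroup `2^11` of the maximal subgroup -/
def ef : J4 := wval fW

/-- the square of `eb` inside `⟨x, y⟩` -/
def eh : J4 := wval hW

/-- the basis of `2^11` -/
def fList : List J4 := (List.range 11).map fun i => ea ^ i * ef * (ea ^ i)⁻¹

/-- the packed basis -/
def fListB : List ℕ :=
  (List.range 11).map fun i => mulB 112 (mulB 112 (powB pA i) pF) (powB pAi i)

theorem img_a : Img ea pA := Img.word (by decide +kernel)

theorem img_ai : Img ea⁻¹ pAi := img_a.inv (by decide +kernel)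

theorem img_b : Img eb pB := Img.word (by decide +kernel)

theorem img_bi : Img eb⁻¹ pBi := img_b.inv (by decide +kernel)

theorem img_e : Img ee pE := Img.word (by decide +kernel)

theorem img_f : Img ef pF := Img.word (by decide +kernel)

theorem img_h : Img eh pH := Img.word (by decide +kernel)

theorem img_x : Img (wval [0]) px := Img.word (by decide +kernel)

theorem img_xi : Img (wval [0])⁻¹ px := img_x.inv px_sq

theorem img_y : Img (wval [1]) py := Img.word (by decide +kernel)

theorem img_yi : Img (wval [1])⁻¹ (mulB 112 py py) := img_y.inv py_cube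

theorem img_conj {g g' : J4} {P P' Q : ℕ} (h : Img g P) (hi : Img g⁻¹ P') (h' : Img g' Q) :
    Img (g * g' * g⁻¹) (mulB 112 (mulB 112 P Q) P') := (h.mul h').mul hi

theorem img_conj_pow (i : ℕ) :
    Img (ea ^ i * ef * (ea ^ i)⁻¹) (mulB 112 (mulB 112 (powB pA i) pF) (powB pAi i)) := by
  refine img_conj (img_a.pow i) ?_ img_f
  rw [← inv_pow]
  exact img_ai.pow i

theorem img_prod (c : ℕ) : Img (prodM fList c) (prodB fListB c) :=
  Img.prodM _ _ img_conj_pow _ c

theorem rep_bab : rep (eb * ea * eb⁻¹) = rep (ea ^ 5) :=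
  (img_conj img_b img_bi img_a).eq (img_a.pow 5) (by decide +kernel)

theorem rep_bb : rep (eb ^ 2) = rep eh := (img_b.pow 2).eq img_h (by decide +kernel)

theorem rep_b22 : rep (eb ^ 22) = rep 1 := (img_b.pow 22).eq Img.one (by decide +kernel)

theorem rep_e2 : rep (ee ^ 2) = rep 1 := (img_e.pow 2).eq Img.one (by decide +kernel)

theorem rep_e_ne : rep ee ≠ rep 1 := img_e.ne Img.one (by decide +kernel)

theorem rep_eh : rep (ee * eh) = rep (eh * ee) :=
  (img_e.mul img_h).eq (img_h.mul img_e) (by decide +kernel)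

theorem rep_h_ne : rep eh ≠ rep 1 := img_h.ne Img.one (by decide +kernel)

theorem rep_a_ne : rep ea ≠ rep 1 := img_a.ne Img.one (by decide +kernel)

theorem rep_z_ne : rep (eb ^ 11) ≠ rep 1 := (img_b.pow 11).ne Img.one (by decide +kernel)

theorem rep_k11 : rep ((ee * eb ^ 11) ^ 11) = rep 1 :=
  ((img_e.mul (img_b.pow 11)).pow 11).eq Img.one (by decide +kernel)

theorem rep_k_ne : rep (ee * eb ^ 11) ≠ rep 1 :=
  (img_e.mul (img_b.pow 11)).ne Img.one (by decide +kernel)

theorem rep_k_notin : ∀ i < 11, rep (ee * eb ^ 11) ≠ rep (eh ^ i) := by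
  intro i hi
  refine (img_e.mul (img_b.pow 11)).ne (img_h.pow i) ?_
  revert i
  decide +kernel

theorem rep_e_eq : rep ee = rep (prodM fList 1557) :=
  img_e.eq (img_prod 1557) (by decide +kernel)

theorem rep_f2 : ∀ i < 11, rep ((ea ^ i * ef * (ea ^ i)⁻¹) * (ea ^ i * ef * (ea ^ i)⁻¹)) = rep 1 := by
  intro i hi
  refine ((img_conj_pow i).mul (img_conj_pow i)).eq Img.one ?_
  revert i
  decide +kernel

theorem rep_fcomm : ∀ i < 11, ∀ j < 11,
    rep ((ea ^ i * ef * (ea ^ i)⁻¹) * (ea ^ j * ef * (ea ^ j)⁻¹)) =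
      rep ((ea ^ j * ef * (ea ^ j)⁻¹) * (ea ^ i * ef * (ea ^ i)⁻¹)) := by
  intro i hi j hj
  refine ((img_conj_pow i).mul (img_conj_pow j)).eq ((img_conj_pow j).mul (img_conj_pow i)) ?_
  revert j; revert i
  decide +kernel

theorem rep_conjX : ∀ i < 11, rep (wval [0] * (ea ^ i * ef * (ea ^ i)⁻¹) * (wval [0])⁻¹) =
    rep (prodM fList (maskX.getD i 0)) := by
  intro i hi
  refine (img_conj img_x img_xi (img_conj_pow i)).eq (img_prod _) ?_
  revert i
  decide +kernel

theorem rep_conjY : ∀ i < 11, rep (wval [1] * (ea ^ i * ef * (ea ^ i)⁻¹) * (wval [1])⁻¹) =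
    rep (prodM fList (maskY.getD i 0)) := by
  intro i hi
  refine (img_conj img_y img_yi (img_conj_pow i)).eq (img_prod _) ?_
  revert i
  decide +kernel

theorem rep_conjA : ∀ i < 11, rep (ea * (ea ^ i * ef * (ea ^ i)⁻¹)) =
    rep (prodM fList (maskA.getD i 0) * ea) := by
  intro i hi
  refine (img_a.mul (img_conj_pow i)).eq ((img_prod _).mul img_a) ?_
  revert i
  decide +kernel

theorem rep_conjH : ∀ i < 11, rep (eh * (ea ^ i * ef * (ea ^ i)⁻¹)) =
    rep (prodM fList (maskH.getD i 0) * eh) := by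
  intro i hi
  refine (img_h.mul (img_conj_pow i)).eq ((img_prod _).mul img_h) ?_
  revert i
  decide +kernel

/-- the factor `a^i * g * a^(-i)` packed -/
def relB (P : ℕ) (l : List ℕ) : ℕ :=
  listB (l.map fun i => mulB 112 (mulB 112 (powB pA i) P) (powB pAi i))

theorem img_rel {g : J4} {P : ℕ} (h : Img g P) (l : List ℕ) :
    Img ((l.map fun i => ea ^ i * g * (ea ^ i)⁻¹).prod) (relB P l) := by
  refine Img.list _ _ (fun i => img_conj (img_a.pow i) ?_ h) l
  rw [← inv_pow]
  exact img_ai.pow i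

/-- the exponents of the relation -/
def relExp : List ℕ := [0, 1, 5, 6, 7, 9, 11]

theorem rep_rel : rep ((relExp.map fun i => ea ^ i * ee * (ea ^ i)⁻¹).prod) = rep 1 :=
  (img_rel img_e relExp).eq Img.one (by decide +kernel)

theorem rep_rel_ne : ∀ j < 11, j ≠ 1 →
    rep ((relExp.map fun i => ea ^ i * ((ee * eb ^ 11) ^ j * eb ^ 11) * (ea ^ i)⁻¹).prod) ≠ rep 1 := by
  intro j hj hj1
  refine (img_rel (((img_e.mul (img_b.pow 11)).pow j).mul (img_b.pow 11)) relExp).ne Img.one ?_
  revert j
  decide +kernel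

theorem rep_not_comm : ∀ j < 11, rep ((ee * eb ^ 11) ^ j * eb ^ 11 * ea) ≠
    rep (ea * ((ee * eb ^ 11) ^ j * eb ^ 11)) := by
  intro j hj
  refine ((((img_e.mul (img_b.pow 11)).pow j).mul (img_b.pow 11)).mul img_a).ne
    (img_a.mul (((img_e.mul (img_b.pow 11)).pow j).mul (img_b.pow 11))) ?_
  revert j
  decide +kernel

end CfsgLib.Spor.J4Out
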