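import Mathlib

/-!
Counting the fixed points of an element of prime order in a permutation group with known orbit
sizes, and the centraliser bound this gives in an overgroup.
-/

set_option autoImplicit false

namespace CfsgLib.Spor.J4Out

open MulAction

variable {M : Type*} [Group M]

/-- orbit and stabiliser -/
theorem natCard_orbit_mul_stabilizer {X : Type*} [MulAction M X] (x : X) :
    Nat.card (orbit M x) * Nat.card (stabilizer M x) = Nat.card M := by
  rw [← Subgroup.index_mul_card (stabilizer M x), index_stabilizer, Nat.card_coe_set_eq]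

/-- covering by orbits of bounded size with total the number of points forces all bounds to be sharp -/
theorem orbit_card_eq {X : Type*} [MulAction M X] [Finite X] {m : ℕ} (p : Fin m → X) (n : Fin m → ℕ)
    (hcov : ∀ x, ∃ i, x ∈ orbit M (p i)) (hle : ∀ i, Nat.card (orbit M (p i)) ≤ n i)
    (hsum : ∑ i, n i ≤ Nat.card X) (i : Fin m) : Nat.card (orbit M (p i)) = n i := by
  classical
  have h1 : Nat.card X ≤ ∑ i, Nat.card (orbit M (p i)) := by
    rw [← Nat.card_sigma]
    refine Nat.card_le_card_of_surjective (fun s => (s.2 : X)) fun x => ?_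
    obtain ⟨j, hj⟩ := hcov x
    exact ⟨⟨j, x, hj⟩, rfl⟩
  have h2 : ∑ i, Nat.card (orbit M (p i)) = ∑ i, n i :=
    le_antisymm (Finset.sum_le_sum fun j _ => hle j) (hsum.trans h1)
  exact (Finset.sum_eq_sum_iff_of_le fun j _ => hle j).1 h2 i (Finset.mem_univ i)

/-- a fixed point of an element of order `q` has an orbit of size prime to `q` -/
theorem not_dvd_orbit {X : Type*} [MulAction M X] [Finite M] {q : ℕ} (hq : q.Prime)
    (hq2 : ¬ q ^ 2 ∣ Nat.card M) {a : M} (ha : orderOf a = q) {x : X} (hx : a • x = x) :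
    ¬ q ∣ Nat.card (orbit M x) := by
  intro h
  have hs : q ∣ Nat.card (stabilizer M x) := by
    have := Subgroup.orderOf_dvd_natCard (stabilizer M x) (show a ∈ stabilizer M x from hx)
    rwa [ha] at this
  refine hq2 ?_
  rw [pow_two, ← natCard_orbit_mul_stabilizer (M := M) x]
  exact Nat.mul_dvd_mul h hs

/-- the fixed points of `a` in an orbit -/
theorem card_fixed_orbit_mul_le {X : Type*} [MulAction M X] [Finite M] (a : M) (p : X) :
    Nat.card {x : X // x ∈ orbit M p ∧ a • x = x} * Nat.card (stabilizer M p) ≤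
      Nat.card {s : stabilizer M p // orderOf s = orderOf a} *
        Nat.card (Subgroup.centralizer ({a} : Set M)) := by
  classical
  let U := {m : M // m⁻¹ * a * m ∈ stabilizer M p}
  have hU : ∀ {m : M}, a • (m • p) = m • p → m⁻¹ * a * m ∈ stabilizer M p := by
    intro m h
    rw [mem_stabilizer_iff, mul_smul, mul_smul, h, inv_smul_smul]
  have hL : Nat.card ({x : X // x ∈ orbit M p ∧ a • x = x} × stabilizer M p) ≤ Nat.card U := by
    choose r hr using fun x : {x : X // x ∈ orbit M p ∧ a • x = x} => mem_orbit_iff.1 x.2.1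
    refine Nat.card_le_card_of_injective (fun z => ⟨r z.1 * z.2.1, hU ?_⟩) ?_
    · rw [mul_smul, mem_stabilizer_iff.1 z.2.2, hr]
      exact z.1.2.2
    · rintro ⟨x, s⟩ ⟨y, t⟩ e
      have e' : r x * (s : M) = r y * (t : M) := congrArg Subtype.val e
      have exy : (x : X) = y := by
        have := congrArg (· • p) e'
        simpa [mul_smul, mem_stabilizer_iff.1 s.2, mem_stabilizer_iff.1 t.2, hr] using this
      obtain rfl := Subtype.ext exy
      exact Prod.ext rfl (Subtype.ext (mul_left_cancel e'))
  have hR : Nat.card U ≤ Nat.card ({s : stabilizer M p // orderOf s = orderOf a} ×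
      Subgroup.centralizer ({a} : Set M)) := by
    let f : U → {s : stabilizer M p // orderOf s = orderOf a} := fun u =>
      ⟨⟨u.1⁻¹ * a * u.1, u.2⟩, by
        rw [← Subgroup.orderOf_coe]
        exact orderOf_injective ((MulAut.conj u.1⁻¹).toMonoidHom) (MulEquiv.injective _) a ▸ by
          simp [MulAut.conj_apply]⟩
    have hrep : ∀ s, ∃ m : M, ∀ u : U, f u = s → m⁻¹ * a * m = u.1⁻¹ * a * u.1 := by
      intro s
      by_cases h : ∃ u : U, f u = s
      · obtain ⟨u₀, h₀⟩ := h
        exact ⟨u₀.1, fun u hu => congrArg (fun z => (z.1 : M)) (h₀.trans hu.symm)⟩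
      · exact ⟨1, fun u hu => absurd ⟨u, hu⟩ h⟩
    choose m hm using hrep
    refine Nat.card_le_card_of_injective (fun u => (f u, ⟨u.1 * (m (f u))⁻¹, ?_⟩)) ?_
    · rw [Subgroup.mem_centralizer_iff]
      rintro g (rfl : g = a)
      have := hm (f u) u rfl
      calc g * (u.1 * (m (f u))⁻¹) = u.1 * (u.1⁻¹ * g * u.1) * (m (f u))⁻¹ := by group
        _ = u.1 * ((m (f u))⁻¹ * g * m (f u)) * (m (f u))⁻¹ := by rw [this]
        _ = u.1 * (m (f u))⁻¹ * g := by group
    · intro u v e
      obtain ⟨e1, e2⟩ := Prod.mk.inj e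
      have e2' : u.1 * (m (f u))⁻¹ = v.1 * (m (f v))⁻¹ := congrArg Subtype.val e2
      rw [congrArg m e1] at e2'
      exact Subtype.ext (mul_right_cancel e2')
  rw [← Nat.card_prod, ← Nat.card_prod]
  exact hL.trans hR

/-- in a group of order `253` there are at most 22 elements of order 23 and 230 of order 11 -/
theorem card_orderOf_253 [Finite M] (h : Nat.card M = 253) :
    Nat.card {s : M // orderOf s = 23} ≤ 22 ∧ Nat.card {s : M // orderOf s = 11} ≤ 230 := by
  classical
  have : Fact (Nat.Prime 23) := ⟨by norm_num⟩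
  obtain ⟨g, hg⟩ := exists_prime_orderOf_dvd_card' (G := M) 23 (by rw [h]; norm_num)
  let P := Subgroup.zpowers g
  have hP : Nat.card P = 23 := by rw [Nat.card_zpowers, hg]
  have hmem : ∀ s : M, orderOf s = 23 → s ∈ P := by
    intro s hs
    by_contra hn
    have hdis : ∀ x ∈ P, x ∈ Subgroup.zpowers s → x = 1 := by
      intro x hx hxs
      by_contra hx1
      have h1 : orderOf x = 23 := by
        have h23 : orderOf x ∣ 23 := by
          have := Subgroup.orderOf_dvd_natCard P hx
          rwa [hP] at this
        rcases (Nat.dvd_prime (by norm_num)).1 h23 with h' | h'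
        · exact absurd (orderOf_eq_one_iff.1 h') hx1
        · exact h'
      have e1 : Subgroup.zpowers x = P := Subgroup.eq_of_le_of_card_ge
        (Subgroup.zpowers_le.2 hx) (by rw [hP, Nat.card_zpowers, h1])
      have e2 : Subgroup.zpowers x = Subgroup.zpowers s := Subgroup.eq_of_le_of_card_ge
        (Subgroup.zpowers_le.2 hxs) (by rw [Nat.card_zpowers, Nat.card_zpowers, h1, hs])
      exact hn (e1.symm.trans e2 ▸ Subgroup.mem_zpowers s)
    have := Nat.card_le_card_of_injective
      (fun z : P × Subgroup.zpowers s => (z.1 : M) * z.2) (by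
        rintro ⟨p, q⟩ ⟨p', q'⟩ e
        have e' : (p' : M)⁻¹ * (p : M) = q' * (q : M)⁻¹ := by
          simp only at e
          rw [eq_mul_inv_iff_mul_eq, mul_assoc, e, inv_mul_cancel_left]
        have h1 := hdis _ (P.mul_mem (P.inv_mem p'.2) p.2)
          (e' ▸ (Subgroup.zpowers s).mul_mem q'.2 ((Subgroup.zpowers s).inv_mem q.2))
        obtain rfl : p' = p := Subtype.ext (inv_mul_eq_one.1 h1)
        exact Prod.ext rfl (Subtype.ext (mul_left_cancel e)))
    rw [Nat.card_prod, hP, Nat.card_zpowers, hs, h] at this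
    omega
  constructor
  · have h1 : Nat.card {s : M // orderOf s = 23} ≤ Nat.card {x : P // x ≠ 1} :=
      Nat.card_le_card_of_injective (fun s => ⟨⟨s.1, hmem _ s.2⟩, fun e => by
        have := s.2
        rw [show s.1 = 1 from congrArg Subtype.val e, orderOf_one] at this
        omega⟩) fun s t e => Subtype.ext (congrArg (fun z => (z.1 : M)) e)
    have h2 : Nat.card {x : P // x ≠ 1} + 1 = 23 := by
      rw [← hP, ← Finite.card_option]
      exact Nat.card_congr (Equiv.optionSubtypeNe 1)
    omega
  · have h1 : Nat.card ({s : M // orderOf s = 11} ⊕ P) ≤ Nat.card M := by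
      refine Nat.card_le_card_of_injective (Sum.elim (·.1) (·.1)) ?_
      refine Function.Injective.sumElim Subtype.val_injective Subtype.val_injective ?_
      intro s p e
      have := Subgroup.orderOf_dvd_natCard P (e ▸ p.2 : s.1 ∈ P)
      rw [s.2, hP] at this
      omega
    rw [Nat.card_sum, hP, h] at h1
    omega

/-- the centraliser of an element acting with few fixed points -/
theorem card_centralizer_le {G X : Type*} [Group G] [Finite G] [MulAction G X] [Finite X]
    (g : G) (x₀ : X) (hx₀ : g • x₀ = x₀) (f c : ℕ)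
    (hfix : Nat.card {x : X // g • x = x} ≤ f)
    (hc : Nat.card (Subgroup.centralizer ({g} : Set G) ⊓ stabilizer G x₀ : Subgroup G) ≤ c) :
    Nat.card (Subgroup.centralizer ({g} : Set G)) ≤ f * c := by
  classical
  let C := Subgroup.centralizer ({g} : Set G)
  rw [← natCard_orbit_mul_stabilizer (M := C) x₀]
  refine Nat.mul_le_mul ?_ ?_
  · have hmem : ∀ x : orbit C x₀, g • (x : X) = x := by
      rintro ⟨-, k, rfl⟩
      have hcm : g * (k : G) = (k : G) * g := Subgroup.mem_centralizer_iff.1 k.2 g rfl
      show g • ((k : G) • x₀) = (k : G) • x₀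
      rw [← mul_smul, hcm, mul_smul, hx₀]
    refine le_trans (Nat.card_le_card_of_injective (fun x => ⟨x.1, hmem x⟩) ?_) hfix
    intro x y e
    exact Subtype.ext (congrArg (fun z => z.1) e)
  · refine le_trans (Nat.card_le_card_of_injective (fun k => ⟨(k.1 : G), k.1.2, k.2⟩) ?_) hc
    intro x y e
    exact Subtype.ext (Subtype.ext (congrArg (fun z => z.1) e))

end CfsgLib.Spor.J4Out
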