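import Cfsg.Agent.Lib.Spor.J4Out.Elem

/-!
In a faithful representation the three chosen elements generate `J4`.
-/

set_option autoImplicit false
set_option maxRecDepth 100000

namespace CfsgLib.Spor.J4Out

open Cfsg.Spor CfsgLib.Spor.J4Rep

/-- the token elements -/
def tokG : ℕ → J4
  | 0 => ea
  | 1 => ea⁻¹
  | 2 => eb
  | 3 => eb⁻¹
  | _ => ee

/-- the packed tokens -/
def tokB : ℕ → ℕ
  | 0 => pA
  | 1 => pAi
  | 2 => pB
  | 3 => pBi
  | _ => pE

theorem img_tok (i : ℕ) : Img (tokG i) (tokB i) := by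
  unfold tokG tokB
  split
  exacts [img_a, img_ai, img_b, img_bi, img_e]

theorem rep_gx : rep ((gxW.map tokG).prod) = rep (wval [0]) :=
  (Img.list _ _ img_tok gxW).eq img_x (by decide +kernel)

theorem rep_gy : rep ((gyW.map tokG).prod) = rep (wval [1]) :=
  (Img.list _ _ img_tok gyW).eq img_y (by decide +kernel)

theorem rep_gt : rep ((gtW.map tokG).prod) = rep (wval [3]) :=
  (Img.list _ _ img_tok gtW).eq (Img.word (P := pt) (by decide +kernel)) (by decide +kernel)

theorem tokG_mem (i : ℕ) : tokG i ∈ Subgroup.closure ({ea, eb, ee} : Set J4) := by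
  unfold tokG
  split
  · exact Subgroup.subset_closure (Or.inl rfl)
  · exact inv_mem (Subgroup.subset_closure (Or.inl rfl))
  · exact Subgroup.subset_closure (Or.inr (Or.inl rfl))
  · exact inv_mem (Subgroup.subset_closure (Or.inr (Or.inl rfl)))
  · exact Subgroup.subset_closure (Or.inr (Or.inr rfl))

theorem closure_abe (hinj : Function.Injective rep) :
    Subgroup.closure ({ea, eb, ee} : Set J4) = ⊤ := by
  have hprod : ∀ w : List ℕ, (w.map tokG).prod ∈ Subgroup.closure ({ea, eb, ee} : Set J4) :=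
    fun w => Subgroup.list_prod_mem _ fun g hg => by
      obtain ⟨i, -, rfl⟩ := List.mem_map.1 hg
      exact tokG_mem i
  rw [eq_top_iff, ← PresentedGroup.closure_range_of, Subgroup.closure_le]
  rintro _ ⟨g, rfl⟩
  have hw : ∀ l : ℕ, (PresentedGroup.mk (coxRelators J4.edges ∪ {r | r ∈ J4.extra})) (letF l) =
      wval [l] := fun l => by simp [wval, wordF]
  cases g
  · show PresentedGroup.mk _ (letF 0) ∈ _
    rw [hw, ← hinj rep_gx]; exact hprod _
  · show PresentedGroup.mk _ (letF 1) ∈ _
    rw [hw, ← hinj rep_gy]; exact hprod _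
  · show PresentedGroup.mk _ (letF 3) ∈ _
    rw [hw, ← hinj rep_gt]; exact hprod _

end CfsgLib.Spor.J4Out
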