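import Mathlib

/-!
Products of sublists of commuting involutions, indexed by bit masks, and the action of conjugation
on them through masks.
-/

set_option autoImplicit false

namespace CfsgLib.Spor.J4Out

variable {G : Type*} [Group G]

/-- the product of the entries selected by a mask -/
def prodM : List G → ℕ → G
  | [], _ => 1
  | f :: fs, c => (bif Nat.beq (c % 2) 1 then f else 1) * prodM fs (c / 2)

/-- the exclusive or of the masks selected by a mask -/
def xorL : List ℕ → ℕ → ℕ
  | [], _ => 0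
  | m :: ms, c => (bif Nat.beq (c % 2) 1 then m else 0) ^^^ xorL ms (c / 2)

theorem prodM_zero : ∀ fs : List G, prodM fs 0 = 1
  | [] => rfl
  | f :: fs => by
    rw [prodM, Nat.zero_mod, Nat.zero_div, prodM_zero fs, show Nat.beq 0 1 = false from rfl,
      cond_false, one_mul]

theorem prodM_commute {g : G} : ∀ (fs : List G) (c : ℕ), (∀ f ∈ fs, g * f = f * g) →
    g * prodM fs c = prodM fs c * g
  | [], _, _ => by simp [prodM]
  | f :: fs, c, h => by
    have ih := prodM_commute fs (c / 2) fun k hk => h k (List.mem_cons_of_mem _ hk)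
    have h0 : g * (bif Nat.beq (c % 2) 1 then f else 1) =
        (bif Nat.beq (c % 2) 1 then f else 1) * g := by
      cases Nat.beq (c % 2) 1
      · simp
      · exact h f List.mem_cons_self
    rw [prodM, ← mul_assoc, h0, mul_assoc, ih, mul_assoc]

theorem prodM_mul : ∀ (fs : List G) (c d : ℕ), (∀ f ∈ fs, f * f = 1) →
    (∀ f ∈ fs, ∀ g ∈ fs, f * g = g * f) → prodM fs c * prodM fs d = prodM fs (c ^^^ d)
  | [], _, _, _, _ => by simp [prodM]
  | f :: fs, c, d, h2, hc => by
    have ih := prodM_mul fs (c / 2) (d / 2) (fun k hk => h2 k (List.mem_cons_of_mem _ hk))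
      fun k hk l hl => hc k (List.mem_cons_of_mem _ hk) l (List.mem_cons_of_mem _ hl)
    set u : G := bif Nat.beq (c % 2) 1 then f else 1 with hu
    set v : G := bif Nat.beq (d % 2) 1 then f else 1 with hv
    have hv' : v * prodM fs (c / 2) = prodM fs (c / 2) * v := by
      refine prodM_commute fs _ fun k hk => ?_
      rw [hv]
      cases Nat.beq (d % 2) 1
      · simp
      · exact hc f List.mem_cons_self k (List.mem_cons_of_mem _ hk)
    have huv : u * v = bif Nat.beq ((c ^^^ d) % 2) 1 then f else 1 := by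
      have hm : (c ^^^ d) % 2 = (c % 2) ^^^ (d % 2) := Nat.xor_mod_two_pow (n := 1)
      rw [hu, hv, hm]
      rcases Nat.mod_two_eq_zero_or_one c with e | e <;>
        rcases Nat.mod_two_eq_zero_or_one d with e' | e' <;> rw [e, e'] <;>
        simp [h2 f List.mem_cons_self, show Nat.beq 0 1 = false from rfl]
    rw [prodM, prodM, prodM, ← hu, ← hv, Nat.xor_div_two, ← ih, ← huv]
    calc u * prodM fs (c / 2) * (v * prodM fs (d / 2))
        = u * (prodM fs (c / 2) * v) * prodM fs (d / 2) := by simp only [mul_assoc]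
      _ = u * (v * prodM fs (c / 2)) * prodM fs (d / 2) := by rw [hv']
      _ = u * v * (prodM fs (c / 2) * prodM fs (d / 2)) := by simp only [mul_assoc]

theorem prodM_map (g : G) : ∀ (fs : List G) (c : ℕ),
    g * prodM fs c * g⁻¹ = prodM (fs.map fun f => g * f * g⁻¹) c
  | [], _ => by simp [prodM]
  | f :: fs, c => by
    rw [List.map_cons, prodM, prodM, ← prodM_map g fs (c / 2)]
    cases Nat.beq (c % 2) 1 <;> simp [mul_assoc]

theorem prodM_masks {fs : List G} (h2 : ∀ f ∈ fs, f * f = 1)
    (hc : ∀ f ∈ fs, ∀ g ∈ fs, f * g = g * f) : ∀ (L : List ℕ) (c : ℕ),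
    prodM (L.map (prodM fs)) c = prodM fs (xorL L c)
  | [], c => by rw [List.map_nil, prodM, xorL, prodM_zero]
  | m :: ms, c => by
    rw [List.map_cons, prodM, xorL, prodM_masks h2 hc ms, ← prodM_mul fs _ _ h2 hc]
    cases Nat.beq (c % 2) 1 <;> simp [prodM_zero]

/-- conjugation acts through masks -/
theorem conj_prodM {fs : List G} (h2 : ∀ f ∈ fs, f * f = 1)
    (hc : ∀ f ∈ fs, ∀ g ∈ fs, f * g = g * f) {g : G} {L : List ℕ}
    (hL : fs.map (fun f => g * f * g⁻¹) = L.map (prodM fs)) (c : ℕ) :
    g * prodM fs c * g⁻¹ = prodM fs (xorL L c) := by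
  rw [prodM_map, hL, prodM_masks h2 hc]

theorem xorL_lt {n : ℕ} : ∀ {L : List ℕ} (c : ℕ), (∀ m ∈ L, m < 2 ^ n) → xorL L c < 2 ^ n
  | [], _, _ => Nat.two_pow_pos n
  | m :: ms, c, h => by
    rw [xorL]
    refine Nat.xor_lt_two_pow ?_ (xorL_lt _ fun k hk => h k (List.mem_cons_of_mem _ hk))
    cases Nat.beq (c % 2) 1
    · exact Nat.two_pow_pos n
    · exact h m List.mem_cons_self

end CfsgLib.Spor.J4Out
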