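import Cfsg.Agent.Lib.Spor.J4Rep.Rep
import Cfsg.Agent.Lib.Spor.J4Out.Span

/-!
Packed matrices as images of elements of `J4`, closed under products, powers and masked products.
-/

set_option autoImplicit false

namespace CfsgLib.Spor.J4Out

open Cfsg.Spor CfsgLib.Spor.J4Rep

/-- `P` is the packed image of `g` -/
def Img (g : J4) (P : ℕ) : Prop :=
  ((rep g : GL (Fin 112) (ZMod 2)) : Matrix (Fin 112) (Fin 112) (ZMod 2)) = toM 112 P

/-- a packed power -/
def powB (P : ℕ) : ℕ → ℕ
  | 0 => oneB 112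
  | n + 1 => mulB 112 (powB P n) P

/-- a packed product of a list -/
def listB : List ℕ → ℕ
  | [] => oneB 112
  | P :: Ps => mulB 112 P (listB Ps)

/-- a packed masked product -/
def prodB : List ℕ → ℕ → ℕ
  | [], _ => oneB 112
  | P :: Ps, c => bif Nat.beq (c % 2) 1 then mulB 112 P (prodB Ps (c / 2)) else prodB Ps (c / 2)

theorem Img.one : Img 1 (oneB 112) := by rw [Img, map_one, toM_oneB]; rfl

theorem Img.mul {g g' : J4} {P P' : ℕ} (h : Img g P) (h' : Img g' P') :
    Img (g * g') (mulB 112 P P') := by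
  rw [Img, map_mul, Units.val_mul, h, h', toM_mulB]

theorem Img.pow {g : J4} {P : ℕ} (h : Img g P) : ∀ n : ℕ, Img (g ^ n) (powB P n)
  | 0 => by rw [pow_zero]; exact Img.one
  | n + 1 => by rw [pow_succ]; exact (h.pow n).mul h

theorem Img.inv {g : J4} {P P' : ℕ} (h : Img g P)
    (e : Nat.beq (mulB 112 P P') (oneB 112) = true) : Img g⁻¹ P' := by
  have h2 := toM_eq_one_of_beq e
  rw [← h] at h2
  rw [Img, map_inv]
  exact Units.inv_eq_of_mul_eq_one_right h2

theorem Img.word {w : List ℕ} {P : ℕ} (h : Nat.beq (evalB w) P = true) : Img (wval w) P := by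
  rw [Img, rep_wval, Nat.eq_of_beq_eq_true h]

theorem Img.eq {g g' : J4} {P P' : ℕ} (h : Img g P) (h' : Img g' P') (e : Nat.beq P P' = true) :
    rep g = rep g' :=
  Units.ext (by rw [h, h', Nat.eq_of_beq_eq_true e])

theorem Img.ne {g g' : J4} {P P' : ℕ} (h : Img g P) (h' : Img g' P')
    (e : neqB 112 P P' = true) : rep g ≠ rep g' := fun he =>
  neqB_sound e (by rw [← h, ← h', he])

theorem Img.list {ι : Type*} (f : ι → J4) (F : ι → ℕ) (hf : ∀ i, Img (f i) (F i)) :
    ∀ l : List ι, Img (l.map f).prod (listB (l.map F))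
  | [] => Img.one
  | i :: l => by
    rw [List.map_cons, List.prod_cons, List.map_cons]
    exact (hf i).mul (Img.list f F hf l)

theorem Img.prodM {ι : Type*} (f : ι → J4) (F : ι → ℕ) (hf : ∀ i, Img (f i) (F i)) :
    ∀ (l : List ι) (c : ℕ), Img (prodM (l.map f) c) (prodB (l.map F) c)
  | [], _ => Img.one
  | i :: l, c => by
    rw [List.map_cons, CfsgLib.Spor.J4Out.prodM, List.map_cons, prodB]
    cases Nat.beq (c % 2) 1
    · rw [cond_false, cond_false, one_mul]; exact Img.prodM f F hf l _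
    · rw [cond_true, cond_true]; exact (hf i).mul (Img.prodM f F hf l _)

end CfsgLib.Spor.J4Out
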