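import Cfsg.Agent.Lib.Spor.J4Out.Gen

/-!
In a faithful representation: the subgroup `2^11` spanned by the conjugates of `ef`, its fixed
points under `ea` and `eh`, and the involutions in a group of order at most 242 centralising `eh`.
-/

set_option autoImplicit false
set_option maxRecDepth 100000

namespace CfsgLib.Spor.J4Out

open Cfsg.Spor CfsgLib.Spor.J4Rep

variable (hinj : Function.Injective rep)
include hinj

theorem mem_fList {f : J4} (h : f ∈ fList) : ∃ i < 11, f = ea ^ i * ef * (ea ^ i)⁻¹ := by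
  obtain ⟨i, hi, rfl⟩ := List.mem_map.1 h
  exact ⟨i, List.mem_range.1 hi, rfl⟩

theorem fList_sq : ∀ f ∈ fList, f * f = 1 := by
  intro f hf
  obtain ⟨i, hi, rfl⟩ := mem_fList hinj hf
  exact hinj (rep_f2 i hi)

theorem fList_comm : ∀ f ∈ fList, ∀ g ∈ fList, f * g = g * f := by
  intro f hf g hg
  obtain ⟨i, hi, rfl⟩ := mem_fList hinj hf
  obtain ⟨j, hj, rfl⟩ := mem_fList hinj hg
  exact hinj (rep_fcomm i hi j hj)

theorem conj_fList {g : J4} {L : List ℕ} (hlen : L.length = 11)
    (h : ∀ i < 11, g * (ea ^ i * ef * (ea ^ i)⁻¹) * g⁻¹ = prodM fList (L.getD i 0)) (c : ℕ) :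
    g * prodM fList c * g⁻¹ = prodM fList (xorL L c) := by
  refine conj_prodM (fList_sq hinj) (fList_comm hinj) ?_ c
  refine List.ext_getElem (by simp [fList, hlen]) fun i h1 h2 => ?_
  have hi : i < 11 := by simpa [fList] using h1
  simp only [List.getElem_map, fList, List.getElem_range]
  have e := h i hi
  rw [List.getD_eq_getElem?_getD, List.getElem?_eq_getElem (by omega), Option.getD_some] at e
  exact e

theorem conjX (c : ℕ) : wval [0] * prodM fList c * (wval [0])⁻¹ = prodM fList (xorL maskX c) :=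
  conj_fList hinj rfl (fun i hi => hinj (rep_conjX i hi)) c

theorem conjY (c : ℕ) : wval [1] * prodM fList c * (wval [1])⁻¹ = prodM fList (xorL maskY c) :=
  conj_fList hinj rfl (fun i hi => hinj (rep_conjY i hi)) c

theorem conjA (c : ℕ) : ea * prodM fList c * ea⁻¹ = prodM fList (xorL maskA c) :=
  conj_fList hinj rfl (fun i hi => mul_inv_eq_iff_eq_mul.2 (hinj (rep_conjA i hi))) c

theorem conjH (c : ℕ) : eh * prodM fList c * eh⁻¹ = prodM fList (xorL maskH c) :=
  conj_fList hinj rfl (fun i hi => mul_inv_eq_iff_eq_mul.2 (hinj (rep_conjH i hi))) c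

omit hinj in
theorem fixA_masks : ∀ c < 2048, xorL maskA c = c → c = 0 := by decide +kernel

omit hinj in
theorem fixH_masks : ∀ c < 2048, xorL maskH c = c → c = 0 ∨ c = 1557 := by decide +kernel

omit hinj in
theorem masks_lt : ∀ L ∈ [maskX, maskY, maskA, maskH], ∀ m ∈ L, m < 2 ^ 11 := by decide +kernel

theorem order_ea : orderOf ea = 23 := by
  have : Fact (Nat.Prime 23) := ⟨by norm_num⟩
  refine orderOf_eq_prime (hinj ?_) fun h => rep_a_ne (congrArg rep h)
  exact (img_a.pow 23).eq Img.one (by decide +kernel)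

theorem bb : eb ^ 2 = eh := hinj rep_bb

theorem order_eh : orderOf eh = 11 := by
  have : Fact (Nat.Prime 11) := ⟨by norm_num⟩
  refine orderOf_eq_prime ?_ fun h => rep_h_ne (congrArg rep h)
  rw [← bb hinj, ← pow_mul]
  exact hinj rep_b22

/-- the centraliser of `eh` has order at least 242, and if exactly that, known involutions -/
theorem centralizer_facts [Finite J4] :
    242 ≤ Nat.card (Subgroup.centralizer ({eh} : Set J4)) ∧
      (Nat.card (Subgroup.centralizer ({eh} : Set J4)) ≤ 242 → ∀ g : J4, g ^ 2 = 1 → g ≠ 1 →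
        g * eh = eh * g → ∃ j < 11, g = (ee * eb ^ 11) ^ j * eb ^ 11) := by
  classical
  have : Fact (Nat.Prime 11) := ⟨by norm_num⟩
  set z : J4 := eb ^ 11 with hz
  set k : J4 := ee * z with hk
  have hz2 : z * z = 1 := by rw [hz, ← pow_add]; exact hinj rep_b22
  have he : ee * ee = 1 := by rw [← pow_two]; exact hinj rep_e2
  have hzinv : z⁻¹ = z := inv_eq_of_mul_eq_one_right hz2
  have heinv : ee⁻¹ = ee := inv_eq_of_mul_eq_one_right he
  have hzh : Commute z eh := by rw [← bb hinj, hz]; exact Commute.pow_pow_self eb 11 2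
  have heh : Commute ee eh := hinj rep_eh
  have hkh : Commute k eh := heh.mul_left hzh
  have hk11 : k ^ 11 = 1 := hinj rep_k11
  have hh11 : eh ^ 11 = 1 := by rw [← order_eh hinj, pow_orderOf_eq_one]
  have hz1 : z ≠ 1 := fun h => rep_z_ne (congrArg rep h)
  have hk1 : k ≠ 1 := fun h => rep_k_ne (congrArg rep h)
  have hzk : ∀ j : ℕ, z * k ^ j * z = (k ^ j)⁻¹ := by
    intro j
    have e1 : z * k * z⁻¹ = k⁻¹ := by
      rw [hk, mul_inv_rev, heinv, hzinv, ← mul_assoc, mul_assoc, hz2, mul_one]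
    calc z * k ^ j * z = z * k ^ j * z⁻¹ := by rw [hzinv]
      _ = (z * k * z⁻¹) ^ j := conj_pow.symm
      _ = (k ^ j)⁻¹ := by rw [e1, inv_pow]
  have hk' : ∀ i : ℕ, k ^ i ∈ Subgroup.zpowers eh → k ^ i = 1 := by
    intro i hi
    by_contra hne
    have hoi : orderOf (k ^ i) = 11 :=
      orderOf_eq_prime (by rw [← pow_mul, mul_comm, pow_mul, hk11, one_pow]) hne
    have hok : orderOf k = 11 := orderOf_eq_prime hk11 hk1
    have e : Subgroup.zpowers (k ^ i) = Subgroup.zpowers k := Subgroup.eq_of_le_of_card_ge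
      (Subgroup.zpowers_le.2 (Subgroup.npow_mem_zpowers k i))
      (by rw [Nat.card_zpowers, Nat.card_zpowers, hoi, hok])
    have hkmem : k ∈ Subgroup.zpowers eh :=
      (Subgroup.zpowers_le.2 hi) (e ▸ Subgroup.mem_zpowers k)
    obtain ⟨n, hn⟩ := (isOfFinOrder_of_finite eh).mem_powers_iff_mem_zpowers.2 hkmem
    refine rep_k_notin (n % 11) (Nat.mod_lt _ (by norm_num)) (congrArg rep ?_)
    simp only at hn
    rw [← pow_mod_orderOf, order_eh hinj] at hn
    exact hn.symm
  let val : Fin 11 × Fin 11 × Fin 2 → J4 := fun q => eh ^ (q.1 : ℕ) * k ^ (q.2.1 : ℕ) * z ^ (q.2.2 : ℕ)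
  have hmem : ∀ q, val q ∈ Subgroup.centralizer ({eh} : Set J4) := by
    intro q
    rw [Subgroup.mem_centralizer_singleton_iff]
    exact (((Commute.refl eh).pow_left _).mul_left (hkh.pow_left _)).mul_left (hzh.pow_left _)
  have h11 : ∀ i j : ℕ, (eh ^ i * k ^ j) ^ 11 = 1 := by
    intro i j
    rw [(hkh.symm.pow_pow i j).mul_pow, ← pow_mul, mul_comm i, pow_mul, hh11, one_pow, one_mul,
      ← pow_mul, mul_comm j, pow_mul, hk11, one_pow]
  have hzL : ∀ i j : ℕ, z ≠ eh ^ i * k ^ j := by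
    intro i j e
    have h1 := h11 i j
    rw [← e, show 11 = 2 * 5 + 1 from rfl, pow_add, pow_mul, pow_two, hz2, one_pow, one_mul,
      pow_one] at h1
    exact hz1 h1
  have hLinv : ∀ i j : ℕ, (eh ^ i * k ^ j)⁻¹ = eh ^ (10 * i) * k ^ (10 * j) := by
    intro i j
    refine inv_eq_of_mul_eq_one_right ?_
    calc eh ^ i * k ^ j * (eh ^ (10 * i) * k ^ (10 * j))
        = eh ^ i * (k ^ j * eh ^ (10 * i)) * k ^ (10 * j) := by simp only [mul_assoc]
      _ = eh ^ i * (eh ^ (10 * i) * k ^ j) * k ^ (10 * j) := by rw [(hkh.pow_pow j (10 * i)).eq]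
      _ = (eh ^ i * eh ^ (10 * i)) * (k ^ j * k ^ (10 * j)) := by simp only [mul_assoc]
      _ = 1 := by
        rw [← pow_add, ← pow_add, show i + 10 * i = 11 * i by ring, pow_mul, hh11, one_pow,
          one_mul, show j + 10 * j = 11 * j by ring, pow_mul, hk11, one_pow]
  have hinjv : Function.Injective (fun q => (⟨val q, hmem q⟩ :
      Subgroup.centralizer ({eh} : Set J4))) := by
    rintro ⟨i, j, s⟩ ⟨i', j', s'⟩ e
    have e' : eh ^ (i : ℕ) * k ^ (j : ℕ) * z ^ (s : ℕ) =
        eh ^ (i' : ℕ) * k ^ (j' : ℕ) * z ^ (s' : ℕ) := congrArg Subtype.val e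
    have hLL : ∀ a b c d : ℕ, (eh ^ a * k ^ b)⁻¹ * (eh ^ c * k ^ d) ≠ z := by
      intro a b c d e2
      rw [hLinv, mul_assoc, ← mul_assoc (k ^ (10 * b)), (hkh.pow_pow (10 * b) c).eq, mul_assoc,
        ← mul_assoc, ← pow_add, ← pow_add] at e2
      exact hzL _ _ e2.symm
    have hss : s = s' := by
      fin_cases s <;> fin_cases s' <;> simp at e' ⊢
      · exact hLL i' j' i j (inv_mul_eq_iff_eq_mul.2 e')
      · exact hLL i j i' j' (inv_mul_eq_iff_eq_mul.2 e'.symm)
    subst hss
    have e2 := mul_right_cancel e'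
    obtain hij | hij := Nat.le_total (j : ℕ) (j' : ℕ)
    all_goals
      first
        | (have h3 : k ^ ((j' : ℕ) - j) ∈ Subgroup.zpowers eh := by
            have : k ^ ((j' : ℕ) - j) = (eh ^ (i' : ℕ))⁻¹ * eh ^ (i : ℕ) := by
              rw [pow_sub _ hij, eq_inv_mul_iff_mul_eq, ← mul_assoc, ← e2, mul_assoc, mul_inv_cancel,
                mul_one]
            rw [this]
            exact mul_mem (inv_mem (Subgroup.npow_mem_zpowers eh _)) (Subgroup.npow_mem_zpowers eh _)
           have hj : (j' : ℕ) = j := by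
            have hd := orderOf_dvd_of_pow_eq_one (hk' _ h3)
            rw [orderOf_eq_prime hk11 hk1] at hd
            have := Nat.eq_zero_of_dvd_of_lt hd (by omega)
            omega)
        | (have h3 : k ^ ((j : ℕ) - j') ∈ Subgroup.zpowers eh := by
            have : k ^ ((j : ℕ) - j') = (eh ^ (i : ℕ))⁻¹ * eh ^ (i' : ℕ) := by
              rw [pow_sub _ hij, eq_inv_mul_iff_mul_eq, ← mul_assoc, e2, mul_assoc, mul_inv_cancel,
                mul_one]
            rw [this]
            exact mul_mem (inv_mem (Subgroup.npow_mem_zpowers eh _)) (Subgroup.npow_mem_zpowers eh _)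
           have hj : (j' : ℕ) = j := by
            have hd := orderOf_dvd_of_pow_eq_one (hk' _ h3)
            rw [orderOf_eq_prime hk11 hk1] at hd
            have := Nat.eq_zero_of_dvd_of_lt hd (by omega)
            omega)
      rw [hj] at e2
      have e3 := mul_right_cancel e2
      have hi : (i : ℕ) = i' :=
        pow_injOn_Iio_orderOf (by rw [Set.mem_Iio, order_eh hinj]; exact i.2)
          (by rw [Set.mem_Iio, order_eh hinj]; exact i'.2) e3
      rw [Prod.mk.injEq, Prod.mk.injEq]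
      exact ⟨Fin.ext hi, Fin.ext hj.symm, rfl⟩
  refine ⟨le_trans (by simp) (Nat.card_le_card_of_injective _ hinjv), ?_⟩
  intro hcard g hg2 hg1 hgc
  have hsurj := hinjv.bijective_of_nat_card_le (hcard.trans (by simp))
  obtain ⟨⟨i, j, s⟩, hq⟩ := hsurj.2 ⟨g, Subgroup.mem_centralizer_singleton_iff.2 hgc⟩
  have hq' : eh ^ (i : ℕ) * k ^ (j : ℕ) * z ^ (s : ℕ) = g := congrArg Subtype.val hq
  fin_cases s <;> simp at hq'
  · exfalso
    apply hg1
    have h1 := h11 i j
    rwa [hq', show 11 = 2 * 5 + 1 from rfl, pow_add, pow_mul, hg2, one_pow, one_mul, pow_one] at h1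
  · refine ⟨j, j.2, ?_⟩
    have hzj : (k ^ (j : ℕ) * z) ^ 2 = 1 := by
      rw [pow_two, mul_assoc, ← mul_assoc z, hzk, mul_inv_cancel]
    have hc : Commute (eh ^ (i : ℕ)) (k ^ (j : ℕ) * z) :=
      (hkh.symm.pow_pow _ _).mul_right (hzh.symm.pow_left _)
    rw [mul_assoc] at hq'
    have h2 : eh ^ (2 * (i : ℕ)) = 1 := by
      rw [mul_comm, pow_mul]
      have := hg2
      rw [← hq', hc.mul_pow, hzj, mul_one] at this
      exact this
    have hi : (i : ℕ) = 0 := by
      have := orderOf_dvd_of_pow_eq_one h2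
      rw [order_eh hinj] at this
      exact Nat.eq_zero_of_dvd_of_lt ((Nat.Coprime.dvd_mul_left (by norm_num)).1 this) i.2
    rw [← hq', hi, pow_zero, one_mul]

theorem le_card_cent [Finite J4] : 242 ≤ Nat.card (Subgroup.centralizer ({eh} : Set J4)) :=
  (centralizer_facts hinj).1

/-- the involutions commuting with `eh` -/
theorem involutions_commuting [Finite J4]
    (hcard : Nat.card (Subgroup.centralizer ({eh} : Set J4)) ≤ 242) : ∀ g : J4, g ^ 2 = 1 → g ≠ 1 →
      g * eh = eh * g → ∃ j < 11, g = (ee * eb ^ 11) ^ j * eb ^ 11 :=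
  (centralizer_facts hinj).2 hcard

end CfsgLib.Spor.J4Out
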